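import Cfsg.Agent.Lib.Wielandt.Internal
import Cfsg.Agent.Lib.HallHigmanOdd.Fitting
import Cfsg.Agent.Lib.Coprime.Generation
import Cfsg.Agent.Lib.Core.Fitting
import Cfsg.Agent.Lib.Hall.Solvable
import Cfsg.Agent.Lib.Hall.Nilpotent
import Cfsg.Agent.Lib.PSolvable.Core

/-!
# Tools for solvable groups with pairwise joined primes and no triangle in the spectrum
-/

set_option autoImplicit false
set_option linter.style.haveILetI false

namespace Cfsg.Agent.Lib.PairSpectrum

open Subgroup
open scoped commutatorElement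
open Cfsg.Agent.Lib

universe u

variable {G : Type u} [Group G] [Finite G]

theorem isPiNumber_of_card {π : Set ℕ} {n u k : ℕ} (hu : u.Prime) (huπ : u ∈ π) (h : n = u ^ k) :
    Hall.IsPiNumber π n := h ▸ Hall.isPiNumber_pow_prime hu huπ k

theorem commute_iff_mem {g x : G} : Commute g x ↔ x ∈ centralizer ({g} : Set G) := by
  rw [mem_centralizer_singleton_iff]
  exact ⟨fun h => h.symm.eq, fun h => (show Commute x g from h).symm⟩

/-- A nontrivial fixed subgroup of a `p`-group contains an element of order `p`. -/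
theorem exists_orderOf_fix {p : ℕ} [hp : Fact p.Prime] {H : Subgroup G} (hH : IsPGroup p H) {g : G}
    (h : H ⊓ centralizer {g} ≠ ⊥) : ∃ x ∈ H, orderOf x = p ∧ Commute g x := by
  have hP : IsPGroup p (H ⊓ centralizer ({g} : Set G) : Subgroup G) := hH.to_le inf_le_left
  obtain ⟨x, hx⟩ := exists_prime_orderOf_dvd_card' p
    (hP.card_eq_or_dvd.resolve_left fun e => h (card_eq_one.mp e))
  exact ⟨(x : G), (mem_inf.mp x.2).1, by rw [Subgroup.orderOf_coe, hx],
    commute_iff_mem.mpr (mem_inf.mp x.2).2⟩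

theorem exists_orderOf {p : ℕ} [Fact p.Prime] {H : Subgroup G} (hH : IsPGroup p H) (h : H ≠ ⊥) :
    ∃ x ∈ H, orderOf x = p := by
  have h1 : centralizer ({(1 : G)} : Set G) = ⊤ := eq_top_iff.mpr fun y _ =>
    mem_centralizer_singleton_iff.mpr (by rw [one_mul, mul_one])
  obtain ⟨x, hx, hxo, -⟩ := exists_orderOf_fix hH (g := 1) (by rwa [h1, inf_top_eq])
  exact ⟨x, hx, hxo⟩

/-- A cyclic group acting fixed-point-freely on a subgroup which does not centralise `P` has a
fixed point on `P`. -/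
theorem fix_ne_bot [Group.IsSolvable G] {U P : Subgroup G} {e : G}
    (heU : e ∈ normalizer (U : Set G)) (hUP : U ≤ normalizer (P : Set G))
    (heP : e ∈ normalizer (P : Set G)) (hc1 : (Nat.card U).Coprime (Nat.card P))
    (hc2 : (orderOf e).Coprime (Nat.card P))
    (hfpf : ∀ g ∈ zpowers e, g ≠ 1 → ∀ u ∈ U, Commute g u → u = 1)
    (hne : ¬ U ≤ centralizer (P : Set G)) : P ⊓ centralizer {e} ≠ ⊥ := by
  intro hbot
  apply hne
  have hUE : U ⊓ zpowers e = ⊥ := by
    rw [eq_bot_iff]
    intro x hx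
    by_contra h1
    rw [mem_bot] at h1
    exact h1 (hfpf x hx.2 h1 x hx.1 (Commute.refl x))
  have hen : zpowers e ≤ normalizer (U : Set G) := zpowers_le.mpr heU
  have hcop : (Nat.card ↥(U ⊔ zpowers e)).Coprime (Nat.card P) := by
    refine Nat.Coprime.coprime_dvd_left ?_ (hc1.mul_left hc2)
    rw [← Nat.card_zpowers, sup_comm, mul_comm]
    exact Hall.card_sup_dvd_of_le_normalizer hen
  have hbot' : P ⊓ centralizer ((zpowers e : Subgroup G) : Set G) = ⊥ := by
    rw [eq_bot_iff, ← hbot]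
    exact inf_le_inf_left _ (centralizer_le (by simp))
  have h := Wielandt.card_centralizer_frobenius hUE hen
    (fun g hg hg1 u hu hcomm => hfpf g hg hg1 u hu hcomm)
    (sup_le hUP (zpowers_le.mpr heP)) inferInstance hcop
  have hsup : P ⊓ centralizer ((U ⊔ zpowers e : Subgroup G) : Set G) = ⊥ := by
    rw [eq_bot_iff, ← hbot']
    exact inf_le_inf_left _ (centralizer_le (SetLike.coe_subset_coe.mpr le_sup_right))
  rw [hsup, hbot', card_bot, one_pow, one_mul, one_mul] at h
  have h2 : P ⊓ centralizer (U : Set G) = P :=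
    eq_of_le_of_card_ge inf_le_left h.le
  exact le_centralizer_iff.mp (inf_eq_left.mp h2)

theorem fpf_of_prime {U : Subgroup G} {e : G} {t : ℕ} (ht : t.Prime) (he : orderOf e = t)
    (h : U ⊓ centralizer {e} = ⊥) :
    ∀ g ∈ zpowers e, g ≠ 1 → ∀ u ∈ U, Commute g u → u = 1 := by
  intro g hg hg1 u hu hcomm
  haveI := Fact.mk ht
  have hle : zpowers g = zpowers e := by
    refine eq_of_le_of_card_ge (zpowers_le.mpr hg) ?_
    rw [Nat.card_zpowers, Nat.card_zpowers, he]
    have hdvd : orderOf g ∣ t := by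
      have h := (zpowers e).orderOf_dvd_natCard hg
      rwa [Nat.card_zpowers, he] at h
    rcases (Nat.dvd_prime ht).mp hdvd with h0 | h0
    · exact absurd (orderOf_eq_one_iff.mp h0) hg1
    · exact h0.ge
  obtain ⟨k, hk⟩ := mem_zpowers_iff.mp (hle ▸ mem_zpowers e : e ∈ zpowers g)
  have hu' : u ∈ U ⊓ centralizer {e} := ⟨hu, commute_iff_mem.mp (hk ▸ hcomm.zpow_left k)⟩
  rw [h] at hu'
  exact mem_bot.mp hu'

/-- If `τ` of prime order has no fixed point on `P`, then it centralises every invariant subgroup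
of odd prime power order acting coprimely, modulo the kernel on `P`. -/
theorem commutator_mem_centralizer [Group.IsSolvable G] {v t : ℕ} [Fact v.Prime] (hv : v ≠ 2)
    (ht : t.Prime) (hvt : v ≠ t) {S P : Subgroup G} (hS : IsPGroup v S) {τ : G}
    (hτ : orderOf τ = t) (hτS : τ ∈ normalizer (S : Set G)) (hSP : S ≤ normalizer (P : Set G))
    (hτP : τ ∈ normalizer (P : Set G)) (hc1 : (Nat.card S).Coprime (Nat.card P))
    (hc2 : t.Coprime (Nat.card P)) (hfix : P ⊓ centralizer {τ} = ⊥) :
    ⁅S, zpowers τ⁆ ≤ centralizer (P : Set G) := by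
  have hτt : τ ^ t = 1 := hτ ▸ pow_orderOf_eq_one τ
  by_cases ht2 : t = 2
  · -- an involution without fixed points inverts `P`
    subst ht2
    have hτ2 : τ * τ = 1 := by rw [← sq]; exact hτt
    have hinv : τ⁻¹ = τ := inv_eq_of_mul_eq_one_right (by rw [← sq]; exact hτt)
    let f : P → P := fun x => ⟨(x : G)⁻¹ * (τ * x * τ⁻¹),
      P.mul_mem (P.inv_mem x.2) ((mem_normalizer_iff.mp hτP _).mp x.2)⟩
    have hf : Function.Surjective f := by
      refine Finite.injective_iff_surjective.mp fun x y hxy => ?_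
      have h : (x : G)⁻¹ * (τ * x * τ⁻¹) = (y : G)⁻¹ * (τ * y * τ⁻¹) := congrArg Subtype.val hxy
      have h2 : (y : G) * (x : G)⁻¹ * τ = τ * ((y : G) * (x : G)⁻¹) := by
        calc (y : G) * (x : G)⁻¹ * τ
            = y * ((x : G)⁻¹ * (τ * x * τ⁻¹)) * (τ * (x : G)⁻¹) := by group
          _ = τ * ((y : G) * (x : G)⁻¹) := by rw [h]; group
      have h3 : (y : G) * (x : G)⁻¹ ∈ P ⊓ centralizer {τ} :=
        ⟨P.mul_mem y.2 (P.inv_mem x.2), mem_centralizer_singleton_iff.mpr h2⟩
      rw [hfix, mem_bot, mul_inv_eq_one] at h3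
      exact (Subtype.ext h3).symm
    have hneg : ∀ x ∈ P, τ * x * τ⁻¹ = x⁻¹ := by
      intro x hx
      obtain ⟨y, hy⟩ := hf ⟨x, hx⟩
      have h : (y : G)⁻¹ * (τ * y * τ⁻¹) = x := congrArg Subtype.val hy
      rw [← h, mul_inv_rev, inv_inv, hinv]
      calc τ * ((y : G)⁻¹ * (τ * y * τ)) * τ
          = τ * (y : G)⁻¹ * τ * y * (τ * τ) := by group
        _ = (τ * y * τ)⁻¹ * y := by
            rw [← sq, hτt, mul_one, mul_inv_rev, mul_inv_rev, hinv, mul_assoc τ _ τ]
    refine commutator_le.mpr fun x hx a ha => mem_centralizer_iff.mpr fun y hy => ?_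
    have hmem : a ∈ ({1, τ} : Set G) := by
      obtain ⟨k, rfl⟩ := mem_zpowers_iff.mp ha
      rw [← zpow_mod_orderOf, hτ]
      rcases Int.emod_two_eq_zero_or_one k with h | h <;> simp [h]
    rcases hmem with rfl | h
    · simp
    · rw [show a = τ from h]
      have hxy : ∀ y ∈ P, x * y * x⁻¹ ∈ P := fun y hy => (mem_normalizer_iff.mp (hSP hx) y).mp hy
      have hxy' : x⁻¹ * (y : G) * x ∈ P := by
        simpa using (mem_normalizer_iff.mp (hSP (S.inv_mem hx)) y).mp hy
      have key : ⁅x, τ⁆ * y * ⁅x, τ⁆⁻¹ = y := by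
        calc ⁅x, τ⁆ * y * ⁅x, τ⁆⁻¹
            = x * (τ * (x⁻¹ * (τ⁻¹ * y * τ⁻¹⁻¹) * x) * τ⁻¹) * x⁻¹ := by
              rw [commutatorElement_def]; group
          _ = y := by
              rw [show τ⁻¹ * y * τ⁻¹⁻¹ = y⁻¹ by rw [hinv]; exact hneg y hy,
                show x⁻¹ * y⁻¹ * x = (x⁻¹ * y * x)⁻¹ by group, hneg _ (P.inv_mem hxy'), inv_inv]
              group
      exact (mul_inv_eq_iff_eq_mul.mp key).symm
  · refine HallHigmanOdd.commutator_le_centralizer hv ht ht2 hvt hS hτt hτS hSP hτP inferInstance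
      ?_ hfix
    refine Nat.Coprime.coprime_dvd_left ?_ (hc1.mul_left hc2)
    rw [← hτ, ← Nat.card_zpowers, sup_comm, mul_comm]
    exact Hall.card_sup_dvd_of_le_normalizer (zpowers_le.mpr hτS)

/-- The same, when `S` acts faithfully. -/
theorem commute_of_fpf [Group.IsSolvable G] {v t : ℕ} [Fact v.Prime] (hv : v ≠ 2)
    (ht : t.Prime) (hvt : v ≠ t) {S P : Subgroup G} (hS : IsPGroup v S) {τ : G}
    (hτ : orderOf τ = t) (hτS : τ ∈ normalizer (S : Set G)) (hSP : S ≤ normalizer (P : Set G))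
    (hτP : τ ∈ normalizer (P : Set G)) (hc1 : (Nat.card S).Coprime (Nat.card P))
    (hc2 : t.Coprime (Nat.card P)) (hfix : P ⊓ centralizer {τ} = ⊥)
    (hker : ∀ x ∈ S, x ∈ centralizer (P : Set G) → x = 1) {x : G} (hx : x ∈ S) : Commute τ x := by
  have h1 : ⁅x, τ⁆ ∈ ⁅S, zpowers τ⁆ := commutator_mem_commutator hx (mem_zpowers τ)
  have h2 := hker _ (Coprime.commutator_le_of_le_normalizer (zpowers_le.mpr hτS) h1)
    (commutator_mem_centralizer hv ht hvt hS hτ hτS hSP hτP hc1 hc2 hfix h1)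
  exact (commutatorElement_eq_one_iff_commute.mp h2).symm

/-- Two commuting elements of prime order `t` generating a group of order `t ^ 2`. -/
structure IsPair (t : ℕ) (a b : G) : Prop where
  left : orderOf a = t
  right : orderOf b = t
  comm : Commute a b
  notMem : a ∉ zpowers b

namespace IsPair

variable {t : ℕ} {a b : G}

theorem orderOf_eq (h : IsPair t a b) (ht : t.Prime) {x : G} (hx : x ∈ closure ({a, b} : Set G))
    (hx1 : x ≠ 1) : orderOf x = t := by
  haveI := Fact.mk ht
  haveI := Coprime.isMulCommutative_closure_pair h.comm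
  refine orderOf_eq_prime ?_ hx1
  clear hx1
  induction hx using closure_induction with
  | mem y hy =>
    rcases hy with rfl | rfl
    · exact h.left ▸ pow_orderOf_eq_one _
    · exact h.right ▸ pow_orderOf_eq_one _
  | one => exact one_pow _
  | mul y z hy hz hy' hz' =>
    have hc : Commute y z := congrArg Subtype.val
      ((IsMulCommutative.is_comm (M := closure ({a, b} : Set G))).comm ⟨y, hy⟩ ⟨z, hz⟩)
    rw [hc.mul_pow, hy', hz', one_mul]
  | inv y _ hy' => rw [inv_pow, hy', inv_one]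

theorem commute_of_mem (h : IsPair t a b) {x y : G} (hx : x ∈ closure ({a, b} : Set G))
    (hy : y ∈ closure ({a, b} : Set G)) : Commute x y :=
  congrArg Subtype.val ((Coprime.isMulCommutative_closure_pair h.comm).is_comm.comm ⟨x, hx⟩ ⟨y, hy⟩)

theorem map {H : Type*} [Group H] (h : IsPair t a b) (e : G →* H) (he : Function.Injective e) :
    IsPair t (e a) (e b) where
  left := by rw [orderOf_injective e he, h.left]
  right := by rw [orderOf_injective e he, h.right]
  comm := h.comm.map e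
  notMem := by
    intro hm
    obtain ⟨k, hk⟩ := mem_zpowers_iff.mp hm
    exact h.notMem (mem_zpowers_iff.mpr ⟨k, he (by rw [map_zpow, hk])⟩)

/-- Some element of the four group has a fixed point. -/
theorem exists_fix (h : IsPair t a b) (ht : t.Prime) {K : Subgroup G}
    (hcop : t.Coprime (Nat.card K)) (ha : a ∈ normalizer (K : Set G))
    (hb : b ∈ normalizer (K : Set G)) (hK : K ≠ ⊥) :
    ∃ x ∈ closure ({a, b} : Set G), x ≠ 1 ∧ K ⊓ centralizer {x} ≠ ⊥ := by
  by_contra hc
  push Not at hc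
  refine hK (le_bot_iff.mp (Coprime.le_of_pair ht hcop ((closure_le _).mpr ?_) h.comm
    (h.left ▸ pow_orderOf_eq_one a) (h.right ▸ pow_orderOf_eq_one b)
    (fun e => ht.ne_one (h.right.symm.trans (by rw [e, orderOf_one])))
    h.notMem fun x hx hx1 => (hc x hx hx1).le))
  rintro x (rfl | rfl) <;> assumption

end IsPair

/-- A `p`-group either contains a pair or has a unique subgroup of order `p`. -/
theorem exists_pair_or_unique {p : ℕ} [hp : Fact p.Prime] {T : Subgroup G} (hT : IsPGroup p T) :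
    (∃ a b, a ∈ T ∧ b ∈ T ∧ IsPair p a b) ∨
      ∀ x ∈ T, ∀ y ∈ T, orderOf x = p → orderOf y = p → x ∈ zpowers y := by
  by_cases h : ∃ a b, a ∈ T ∧ b ∈ T ∧ IsPair p a b
  · exact Or.inl h
  refine Or.inr fun x hx y hy hxo hyo => ?_
  rcases eq_or_ne T ⊥ with rfl | hne
  · rw [mem_bot] at hx
    rw [hx]
    exact one_mem _
  haveI : Nontrivial T := (nontrivial_iff_ne_bot T).mpr hne
  haveI := hT.center_nontrivial
  obtain ⟨⟨⟨z, hzT⟩, hzc⟩, hz⟩ := exists_prime_orderOf_dvd_card' (G := center T) p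
    ((hT.to_subgroup _).card_eq_or_dvd.resolve_left (fun e => by
      have := Finite.one_lt_card (α := center T)
      omega))
  have hzo : orderOf z = p := by rw [← hz]; simp [Subgroup.orderOf_coe]
  have key : ∀ w ∈ T, orderOf w = p → zpowers w = zpowers z := fun w hw hwo => by
    have hmem : w ∈ zpowers z := by
      by_contra hn
      exact h ⟨w, z, hw, hzT, hwo, hzo,
        congrArg Subtype.val (mem_center_iff.mp hzc ⟨w, hw⟩), hn⟩
    refine eq_of_le_of_card_ge (zpowers_le.mpr hmem) ?_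
    rw [Nat.card_zpowers, Nat.card_zpowers, hwo, hzo]
  rw [key y hy hyo, ← key x hx hxo]
  exact mem_zpowers x

/-- A non-trivial action of an element of prime order `t` on a group of prime order `u`. -/
theorem dvd_sub_one {t u : ℕ} (ht : t.Prime) (hu : u.Prime) {g b : G} (hg : orderOf g = t)
    (hb : orderOf b = u) (hgb : g ∈ normalizer ((zpowers b : Subgroup G) : Set G))
    (hne : ¬ Commute g b) : t ∣ u - 1 := by
  haveI := Fact.mk ht
  haveI := Fact.mk hu
  haveI : Finite (MulAut (zpowers b)) := DFunLike.finite _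
  set ψ := Coprime.conjAut (zpowers_le.mpr hgb : zpowers g ≤ _) ⟨g, mem_zpowers g⟩ with hψ
  have hpow : ψ ^ t = 1 := by
    rw [hψ, ← map_pow, show (⟨g, mem_zpowers g⟩ : zpowers g) ^ t = 1 from
      Subtype.ext (hg ▸ pow_orderOf_eq_one g), map_one]
  have hne1 : ψ ≠ 1 := by
    intro e
    have h := congrArg Subtype.val (DFunLike.congr_fun e (⟨b, mem_zpowers b⟩ : zpowers b))
    exact hne (mul_inv_eq_iff_eq_mul.mp h)
  have h := orderOf_dvd_natCard ψ
  rwa [orderOf_eq_prime hpow hne1, IsCyclic.card_mulAut, Nat.card_zpowers, hb,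
    Nat.totient_prime hu] at h

end Cfsg.Agent.Lib.PairSpectrum
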