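import Cfsg.Agent.Lib.PairSpectrum.OnePrime

/-!
# The spectrum criterion for non-solvability
-/

set_option autoImplicit false
set_option linter.style.haveILetI false

namespace Cfsg.Agent.Lib.PairSpectrum

open Subgroup
open Cfsg.Agent.Lib

universe u

variable {G : Type u} [Group G] [Finite G]

theorem exists_others {σ : Finset ℕ} (h4 : σ.card = 4) {p : ℕ} (hp : p ∈ σ) :
    ∃ q r s : ℕ, q ∈ σ ∧ r ∈ σ ∧ s ∈ σ ∧ p ≠ q ∧ p ≠ r ∧ p ≠ s ∧ q ≠ r ∧ q ≠ s ∧ r ≠ s ∧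
      ∀ u ∈ σ, u ≠ p → u = q ∨ u = r ∨ u = s := by
  have h3 : (σ.erase p).card = 3 := by rw [Finset.card_erase_of_mem hp, h4]
  obtain ⟨q, r, s, hqr, hqs, hrs, he⟩ := Finset.card_eq_three.mp h3
  have hmem : ∀ u, u ∈ σ.erase p ↔ u = q ∨ u = r ∨ u = s := fun u => by rw [he]; simp
  have hq := Finset.mem_erase.mp ((hmem q).mpr (Or.inl rfl))
  have hr := Finset.mem_erase.mp ((hmem r).mpr (Or.inr (Or.inl rfl)))
  have hs := Finset.mem_erase.mp ((hmem s).mpr (Or.inr (Or.inr rfl)))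
  exact ⟨q, r, s, hq.2, hr.2, hs.2, hq.1.symm, hr.1.symm, hs.1.symm, hqr, hqs, hrs,
    fun u hu hne => (hmem u).mp (Finset.mem_erase.mpr ⟨hne, hu⟩)⟩

theorem top_le_normalizer_coreIn {u : ℕ} :
    ⊤ ≤ normalizer (coreIn u (⊤ : Subgroup G) : Set G) := le_normalizer_coreIn

variable [Group.IsSolvable G] {σ : Finset ℕ}

/-- Two primes in the Fitting subgroup. -/
theorem false_of_two_primes (hS : Spec G σ) {p q r s : ℕ} [Fact p.Prime] [Fact q.Prime]
    [Fact r.Prime] [Fact s.Prime] (hp : p ∈ σ) (hq : q ∈ σ) (hr : r ∈ σ) (hs : s ∈ σ)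
    (hpq : p ≠ q) (hpr : p ≠ r) (hps : p ≠ s) (hqr : q ≠ r) (hqs : q ≠ s) (hrs : r ≠ s)
    (hP1 : coreIn p (⊤ : Subgroup G) ≠ ⊥) (hN1 : coreIn q (⊤ : Subgroup G) ≠ ⊥) : False := by
  obtain ⟨H, hH⟩ := Hall.exists_isPiHall (G := G) ({r, s} : Set ℕ)
  have hH' : Cfsg.IsPiHall ({s, r} : Set ℕ) H := by rwa [Set.pair_comm]
  have key : ∀ {p q : ℕ} [Fact p.Prime] [Fact q.Prime], p ∈ σ → q ∈ σ → p ≠ q → p ≠ r → p ≠ s →
      q ≠ r → q ≠ s → coreIn p (⊤ : Subgroup G) ≠ ⊥ → coreIn q (⊤ : Subgroup G) ≠ ⊥ →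
      H ⊓ centralizer (coreIn q (⊤ : Subgroup G) : Set G) = ⊥ := by
    intro p q _ _ hp hq hpq hpr hps hqr hqs hP1 hN1
    by_contra hne
    obtain ⟨u, hu, hud, hcore⟩ := exists_coreIn_ne_bot hne
    rcases hH.1 u hu (hud.trans (card_dvd_of_le inf_le_left)) with rfl | h
    · exact false_of_centralizes hS hp hq hr hs hpq hpr hps hqr hqs hrs coreIn_isPGroup
        coreIn_isPGroup hP1 hN1 top_le_normalizer_coreIn top_le_normalizer_coreIn hH hcore
    · rw [show u = s from h] at hcore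
      exact false_of_centralizes hS hp hq hs hr hpq hps hpr hqs hqr hrs.symm coreIn_isPGroup
        coreIn_isPGroup hP1 hN1 top_le_normalizer_coreIn top_le_normalizer_coreIn hH' hcore
  have hHN := key hp hq hpq hpr hps hqr hqs hP1 hN1
  have hHP := key hq hp hpq.symm hqr hqs hpr hps hN1 hP1
  by_cases hs2 : s = 2
  · exact false_of_faithful hS hp hq hs hr hpq hps hpr hqs hqr hrs.symm (fun e => hrs (e.trans hs2.symm))
      coreIn_isPGroup coreIn_isPGroup hP1 hN1 top_le_normalizer_coreIn top_le_normalizer_coreIn hH'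
      hHP hHN
  · exact false_of_faithful hS hp hq hr hs hpq hpr hps hqr hqs hrs hs2 coreIn_isPGroup
      coreIn_isPGroup hP1 hN1 top_le_normalizer_coreIn top_le_normalizer_coreIn hH hHP hHN

/-- One prime in the Fitting subgroup, two in that of the Hall complement. -/
theorem false_of_two_cores' (hS : Spec G σ) {p q r s : ℕ} [Fact p.Prime] [Fact q.Prime]
    [Fact r.Prime] [Fact s.Prime] (hp : p ∈ σ) (hq : q ∈ σ) (hr : r ∈ σ) (hs : s ∈ σ)
    (hpq : p ≠ q) (hpr : p ≠ r) (hps : p ≠ s) (hqr : q ≠ r) (hqs : q ≠ s) (hrs : r ≠ s)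
    {P K : Subgroup G} (hP : IsPGroup p P) (hP1 : P ≠ ⊥) (hPn : ⊤ ≤ normalizer (P : Set G))
    (hK : Cfsg.IsPiHall ({q, r, s} : Set ℕ) K) (hKP : K ⊓ centralizer (P : Set G) = ⊥)
    (hQ1 : coreIn q K ≠ ⊥) (hR1 : coreIn r K ≠ ⊥) : False := by
  rcases exists_pair_or_unique (coreIn_isPGroup (p := r) (K := K)) with ⟨a, b, ha, hb, hab⟩ | hu
  swap
  · exact false_of_two_cores hS hp hq hr hs hpq hpr hps hqr hqs hrs hP hPn hK hKP hQ1 hR1 hu
  rcases exists_pair_or_unique (coreIn_isPGroup (p := q) (K := K)) with ⟨c, d, hc, hd, hcd⟩ | hu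
  swap
  · exact false_of_two_cores hS hp hr hq hs hpr hpq hps hqr.symm hrs hqs hP hPn
      (by rwa [Set.insert_comm]) hKP hR1 hQ1 hu
  have hqp : q.Prime := Fact.out
  have hrp : r.Prime := Fact.out
  have hQR : ∀ x ∈ coreIn q K, ∀ y ∈ coreIn r K, Commute x y := fun x hx y hy =>
    commute_of_inf_eq_bot coreIn_le coreIn_le le_normalizer_coreIn le_normalizer_coreIn
      (inf_eq_bot_of_ne hqr coreIn_isPGroup coreIn_isPGroup) hx hy
  obtain ⟨x, hxm, hx1, hfix⟩ := hcd.exists_fix hqp (coprime_card_of_isPGroup hP hqp hpq.symm)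
    (hPn (mem_top _)) (hPn (mem_top _)) hP1
  have hxQ : x ∈ coreIn q K := (closure_le _).mpr (by rintro z (rfl | rfl) <;> assumption) hxm
  have hnorm : ∀ y ∈ coreIn r K, y ∈ normalizer ((P ⊓ centralizer {x} : Subgroup G) : Set G) := by
    intro y hy
    refine Coprime.le_normalizer_of_conj_mem (A := coreIn r K) (fun g hg z hz => ?_) hy
    refine ⟨(mem_normalizer_iff.mp (hPn (mem_top g)) z).mp hz.1, commute_iff_mem.mp ?_⟩
    have hk : Commute x g := hQR x hxQ g hg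
    exact (hk.mul_right (commute_iff_mem.mpr hz.2)).mul_right hk.inv_right
  obtain ⟨y, hym, hy1, hfix'⟩ := hab.exists_fix hrp
    (coprime_card_of_isPGroup (hP.to_le inf_le_left) hrp hpr.symm) (hnorm a ha) (hnorm b hb) hfix
  have hyR : y ∈ coreIn r K := (closure_le _).mpr (by rintro z (rfl | rfl) <;> assumption) hym
  obtain ⟨v, hv, hvo, hyv⟩ := exists_orderOf_fix (hP.to_le inf_le_left) hfix'
  exact hS.three hp hq hr hpq hqr hpr hvo (hcd.orderOf_eq hqp hxm hx1) (hab.orderOf_eq hrp hym hy1)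
    (commute_iff_mem.mpr hv.2).symm (hQR x hxQ y hyR) hyv.symm

theorem false_of_spec (hS : Spec G σ) (h4 : σ.card = 4) : False := by
  obtain ⟨p₀, hp₀⟩ : σ.Nonempty := Finset.card_pos.mp (by omega)
  obtain ⟨q₀, -, -, hq₀, -, -, hne, -⟩ := exists_others h4 hp₀
  obtain ⟨x₀, -, hx₀, -, -⟩ := hS.pairs p₀ hp₀ q₀ hq₀ hne
  have htop : (⊤ : Subgroup G) ≠ ⊥ := by
    intro e
    have h : x₀ = 1 := mem_bot.mp (e ▸ mem_top x₀)
    rw [h, orderOf_one] at hx₀
    exact (hS.prime p₀ hp₀).ne_one hx₀.symm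
  obtain ⟨p, hpp, hpd, hP1⟩ := exists_coreIn_ne_bot htop
  have hp : p ∈ σ := hS.pi p hpp (by rwa [card_top] at hpd)
  haveI := Fact.mk hpp
  by_cases h2 : ∃ q : ℕ, q ∈ σ ∧ p ≠ q ∧ coreIn q (⊤ : Subgroup G) ≠ ⊥
  · obtain ⟨q, hq, hpq, hN1⟩ := h2
    haveI := Fact.mk (hS.prime q hq)
    obtain ⟨a, b, c, ha, hb, hc, hpa, hpb, hpc, hab, hac, hbc, hall⟩ := exists_others h4 hp
    haveI := Fact.mk (hS.prime a ha)
    haveI := Fact.mk (hS.prime b hb)
    haveI := Fact.mk (hS.prime c hc)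
    rcases hall q hq hpq.symm with rfl | rfl | rfl
    · exact false_of_two_primes hS hp ha hb hc hpa hpb hpc hab hac hbc hP1 hN1
    · exact false_of_two_primes hS hp hb ha hc hpb hpa hpc hab.symm hbc hac hP1 hN1
    · exact false_of_two_primes hS hp hc ha hb hpc hpa hpb hac.symm hbc.symm hab hP1 hN1
  push Not at h2
  obtain ⟨q, r, s, hq, hr, hs, hpq, hpr, hps, hqr, hqs, hrs, hall⟩ := exists_others h4 hp
  haveI := Fact.mk (hS.prime q hq)
  haveI := Fact.mk (hS.prime r hr)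
  haveI := Fact.mk (hS.prime s hs)
  set P := coreIn p (⊤ : Subgroup G) with hPdef
  have hP : IsPGroup p P := coreIn_isPGroup
  have hCP : (⊤ : Subgroup G) ⊓ centralizer (P : Set G) ≤ P := by
    refine centralizer_cores_le le_top fun u hu => ?_
    haveI := Fact.mk hu
    rcases eq_or_ne (coreIn u (⊤ : Subgroup G)) ⊥ with h | h
    · rw [h]; exact bot_le
    obtain ⟨x, hx, hxo⟩ := exists_orderOf coreIn_isPGroup h
    have huσ : u ∈ σ := hS.pi u hu (hxo ▸ orderOf_dvd_natCard x)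
    by_cases hup : p = u
    · subst hup; exact le_rfl
    · exact absurd (h2 u huσ hup) h
  obtain ⟨K, hK⟩ := Hall.exists_isPiHall (G := G) ({q, r, s} : Set ℕ)
  have hKP : K ⊓ centralizer (P : Set G) = ⊥ := by
    rw [eq_bot_iff]
    intro x hx
    have hxP : x ∈ P := hCP ⟨mem_top x, hx.2⟩
    rw [mem_bot, ← orderOf_eq_one_iff]
    by_contra hne
    obtain ⟨u, hu, hd⟩ := Nat.exists_prime_and_dvd hne
    obtain ⟨k, hk⟩ := IsPGroup.iff_card.mp hP
    have hup : u = p := (Nat.prime_dvd_prime_iff_eq hu hpp).mp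
      (hu.dvd_of_dvd_pow (hk ▸ hd.trans (P.orderOf_dvd_natCard hxP)))
    subst hup
    rcases hK.1 u hu (hd.trans (K.orderOf_dvd_natCard hx.1)) with h | h | h
    exacts [hpq h, hpr h, hps h]
  have hKne : K ≠ ⊥ := by
    intro e
    obtain ⟨x, hx, y, hy, hxo, -, -⟩ := hS.exists_commuting_mem hq hr hqr
      (by simp : q ∈ ({q, r, s} : Set ℕ)) (by simp) hK
    rw [e, mem_bot] at hx
    rw [hx, orderOf_one] at hxo
    exact (hS.prime q hq).ne_one hxo.symm
  obtain ⟨u, hu, hud, hcore⟩ := exists_coreIn_ne_bot hKne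
  have hPn : ⊤ ≤ normalizer (P : Set G) := top_le_normalizer_coreIn
  suffices main : ∀ q r s : ℕ, q ∈ σ → r ∈ σ → s ∈ σ → p ≠ q → p ≠ r → p ≠ s → q ≠ r → q ≠ s →
      r ≠ s → Cfsg.IsPiHall ({q, r, s} : Set ℕ) K → coreIn q K ≠ ⊥ → False by
    rcases hK.1 u hu hud with h | h | h
    · exact main q r s hq hr hs hpq hpr hps hqr hqs hrs hK (h ▸ hcore)
    · exact main r q s hr hq hs hpr hpq hps hqr.symm hrs hqs (by rwa [Set.insert_comm]) (h ▸ hcore)
    · refine main s q r hs hq hr hps hpq hpr hqs.symm hrs.symm hqr ?_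
        ((show u = s from h) ▸ hcore)
      rwa [Set.insert_comm, Set.pair_comm s r]
  intro q r s hq hr hs hpq hpr hps hqr hqs hrs hK hQ1
  haveI := Fact.mk (hS.prime q hq)
  haveI := Fact.mk (hS.prime r hr)
  haveI := Fact.mk (hS.prime s hs)
  by_cases hR : coreIn r K = ⊥
  · by_cases hS' : coreIn s K = ⊥
    · exact false_of_one_core hS hp hq hr hs hpq hpr hps hqr hqs hrs hP hP1 hPn hK hKP hQ1 hR hS'
    · exact false_of_two_cores' hS hp hq hs hr hpq hps hpr hqs hqr hrs.symm hP hP1 hPn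
        (by rwa [Set.pair_comm s r]) hKP hQ1 hS'
  · exact false_of_two_cores' hS hp hq hr hs hpq hpr hps hqr hqs hrs hP hP1 hPn hK hKP hQ1 hR

end Cfsg.Agent.Lib.PairSpectrum
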