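import Cfsg.Agent.Lib.PairSpectrum.TwoPrimes
import Cfsg.Agent.Lib.CoprimeOmega.Basic

/-!
# One prime in the Fitting subgroup
-/

set_option autoImplicit false
set_option linter.style.haveILetI false

namespace Cfsg.Agent.Lib.PairSpectrum

open Subgroup
open scoped commutatorElement
open Cfsg.Agent.Lib

universe u

variable {G : Type u} [Group G] [Finite G]

theorem commute_left_of_commute_mul {y w x : G} {t t' : ℕ} (hy : orderOf y = t) (hw : orderOf w = t')
    (hco : t.Coprime t') (hyw : Commute y w) (h : Commute x (y * w)) : Commute x y := by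
  have h1 : Commute x (y ^ t') := by
    have h2 := h.pow_right t'
    rwa [hyw.mul_pow, show w ^ t' = 1 from hw ▸ pow_orderOf_eq_one w, mul_one] at h2
  obtain ⟨m, hm⟩ := exists_pow_eq_self_of_coprime (x := y) (n := t') (by rw [hy]; exact hco.symm)
  exact hm ▸ h1.pow_right m

/-- Normality of the subgroup generated by an element of prime order, when it is unique. -/
theorem normalizer_zpowers_of_unique {u : ℕ} {K R : Subgroup G} (hKR : K ≤ normalizer (R : Set G))
    (huniq : ∀ x ∈ R, ∀ y ∈ R, orderOf x = u → orderOf y = u → x ∈ zpowers y) {b : G} (hb : b ∈ R)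
    (hbo : orderOf b = u) {g : G} (hg : g ∈ K) :
    g ∈ normalizer ((zpowers b : Subgroup G) : Set G) := by
  refine Coprime.le_normalizer_of_conj_mem (A := zpowers g) (fun a ha z hz => ?_) (mem_zpowers g)
  have haK : a ∈ K := zpowers_le.mpr hg ha
  have hmem : a * b * a⁻¹ ∈ zpowers b := by
    refine huniq _ ((mem_normalizer_iff.mp (hKR haK) b).mp hb) b hb ?_ hbo
    have := orderOf_injective (MulAut.conj a).toMonoidHom (MulAut.conj a).injective b
    simpa [hbo] using this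
  obtain ⟨k, rfl⟩ := mem_zpowers_iff.mp hz
  rw [← conj_zpow]
  exact zpow_mem hmem k

theorem exists_isPiHallOf_trans [Group.IsSolvable G] {π π' : Set ℕ} (hsub : π' ⊆ π) {K : Subgroup G}
    (hK : Cfsg.IsPiHall π K) : ∃ J : Subgroup G, J ≤ K ∧ Cfsg.IsPiHall π' J := by
  obtain ⟨J, hJK, hJ, hJi⟩ := Hall.exists_isPiHallOf π' K
  refine ⟨J, hJK, (Hall.isPiHall_iff _).mpr ⟨hJ, fun u hu hd hm => ?_⟩⟩
  rw [← relIndex_mul_index hJK] at hd
  rcases hu.dvd_mul.mp hd with h | h
  · exact hJi u hu hm h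
  · exact ((Hall.isPiHall_iff _).mp hK).2 u hu h (hsub hm)

theorem eq_one_of_isPGroup_ne {u v : ℕ} [Fact u.Prime] [Fact v.Prime] (huv : u ≠ v) {U V : Subgroup G}
    (hU : IsPGroup u U) (hV : IsPGroup v V) {x : G} (hxU : x ∈ U) (hxV : x ∈ V) : x = 1 := by
  have h := inf_eq_bot_of_ne huv hU hV
  exact mem_bot.mp (h ▸ (⟨hxU, hxV⟩ : x ∈ U ⊓ V))

variable {σ : Finset ℕ} [Group.IsSolvable G]

/-- A commuting pair both fixed-point-free on a normal subgroup of `K` which does not centralise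
`P` gives three commuting elements. -/
theorem false_of_fpf_pair (hS : Spec G σ) {p t t' : ℕ} [Fact p.Prime] (hp : p ∈ σ) (ht : t ∈ σ)
    (ht' : t' ∈ σ) (hpt : p ≠ t) (hpt' : p ≠ t') (htt' : t ≠ t') {P U : Subgroup G}
    (hP : IsPGroup p P) (hPn : ⊤ ≤ normalizer (P : Set G)) {y w : G} (hy : orderOf y = t)
    (hw : orderOf w = t') (hyw : Commute y w) (hyU : y ∈ normalizer (U : Set G))
    (hwU : w ∈ normalizer (U : Set G)) (hUP : (Nat.card U).Coprime (Nat.card P))
    (hne : ¬ U ≤ centralizer (P : Set G)) (h1 : U ⊓ centralizer {y} = ⊥)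
    (h2 : U ⊓ centralizer {w} = ⊥) : False := by
  have htp := hS.prime t ht
  have ht'p := hS.prime t' ht'
  have hco : t.Coprime t' := (Nat.coprime_primes htp ht'p).mpr htt'
  have hmul : orderOf (y * w) = t * t' := by
    rw [hyw.orderOf_mul_eq_mul_orderOf_of_coprime (by rw [hy, hw]; exact hco), hy, hw]
  have hfpf : ∀ g ∈ zpowers (y * w), g ≠ 1 → ∀ u ∈ U, Commute g u → u = 1 := by
    intro g hg hg1 u hu hcomm
    obtain ⟨k, rfl⟩ := mem_zpowers_iff.mp hg
    by_cases hwk : (w ^ k) ^ (t : ℤ) = 1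
    · have hwk1 : w ^ k = 1 := by
        rw [← orderOf_eq_one_iff]
        refine Nat.eq_one_of_dvd_coprimes hco (orderOf_dvd_of_pow_eq_one ?_) ?_
        · rwa [zpow_natCast] at hwk
        · have h := (zpowers w).orderOf_dvd_natCard (zpow_mem (mem_zpowers w) k)
          rwa [Nat.card_zpowers, hw] at h
      rw [hyw.mul_zpow, hwk1, mul_one] at hcomm hg1
      exact fpf_of_prime htp hy h1 _ (zpow_mem (mem_zpowers y) k) hg1 u hu hcomm
    · have hc := hcomm.zpow_left (t : ℤ)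
      rw [hyw.mul_zpow, ((hyw.zpow_left k).zpow_right k).mul_zpow,
        show (y ^ k) ^ (t : ℤ) = 1 by
          rw [← zpow_mul, mul_comm, zpow_mul, zpow_natCast, ← hy, pow_orderOf_eq_one, one_zpow],
        one_mul] at hc
      exact fpf_of_prime ht'p hw h2 _ (zpow_mem (zpow_mem (mem_zpowers w) k) t) hwk u hu hc
  have hfix := fix_ne_bot (mul_mem hyU hwU) (fun z _ => hPn (mem_top z)) (hPn (mem_top _)) hUP
    (hmul ▸ (coprime_card_of_isPGroup hP htp hpt.symm).mul_left
      (coprime_card_of_isPGroup hP ht'p hpt'.symm)) hfpf hne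
  obtain ⟨v, -, hvo, hv⟩ := exists_orderOf_fix hP hfix
  exact hS.three hp ht ht' hpt htt' hpt' hvo hy hw
    (commute_left_of_commute_mul hy hw hco hyw hv.symm) hyw
    (commute_left_of_commute_mul hw hy hco.symm hyw.symm (hyw.eq ▸ hv.symm))

/-- Fixed points on `Q` and `P` of an element. -/
def IsAlpha (P Q : Subgroup G) (x : G) : Prop :=
  Q ⊓ centralizer {x} ≠ ⊥ ∧ P ⊓ centralizer {x} = ⊥

def IsBeta (P Q : Subgroup G) (x : G) : Prop :=
  Q ⊓ centralizer {x} = ⊥ ∧ P ⊓ centralizer {x} ≠ ⊥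

/-- `F(K)` has one prime. -/
theorem false_of_one_core (hS : Spec G σ) {p q r s : ℕ} [Fact p.Prime] [Fact q.Prime]
    [Fact r.Prime] [Fact s.Prime] (hp : p ∈ σ) (hq : q ∈ σ) (hr : r ∈ σ) (hs : s ∈ σ)
    (hpq : p ≠ q) (hpr : p ≠ r) (hps : p ≠ s) (hqr : q ≠ r) (hqs : q ≠ s) (hrs : r ≠ s)
    {P K : Subgroup G} (hP : IsPGroup p P) (hP1 : P ≠ ⊥) (hPn : ⊤ ≤ normalizer (P : Set G))
    (hK : Cfsg.IsPiHall ({q, r, s} : Set ℕ) K) (hKP : K ⊓ centralizer (P : Set G) = ⊥)
    (hQ1 : coreIn q K ≠ ⊥) (hR : coreIn r K = ⊥) (hS' : coreIn s K = ⊥) : False := by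
  set Q := coreIn q K with hQdef
  have hQp : IsPGroup q Q := coreIn_isPGroup
  have hQn : ∀ {x : G}, x ∈ K → x ∈ normalizer (Q : Set G) := fun hx => le_normalizer_coreIn hx
  have hker : ∀ x ∈ K, x ∈ centralizer (P : Set G) → x = 1 := fun x hx hxc =>
    mem_bot.mp (hKP ▸ (⟨hx, hxc⟩ : x ∈ K ⊓ centralizer (P : Set G)))
  have hCQ : K ⊓ centralizer (Q : Set G) ≤ Q := by
    refine centralizer_cores_le coreIn_le fun u hu => ?_
    haveI := Fact.mk hu
    rcases eq_or_ne (coreIn u K) ⊥ with h | h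
    · rw [h]; exact bot_le
    · obtain ⟨x, hx, hxo⟩ := exists_orderOf coreIn_isPGroup h
      rcases hK.1 u hu (hxo ▸ K.orderOf_dvd_natCard (coreIn_le hx)) with rfl | rfl | rfl
      exacts [le_rfl, absurd hR h, absurd hS' h]
  have hQsub : ∀ {U : Subgroup G}, U ≤ Q → U ≠ ⊥ → ¬ U ≤ centralizer (P : Set G) := by
    intro U hU hU1 hle
    exact hU1 (eq_bot_iff.mpr fun x hx => mem_bot.mpr (hker x (coreIn_le (hU hx)) (hle hx)))
  -- exclusive types for commuting elements of orders `r`, `s`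
  have notBoth : ∀ {t t' : ℕ}, t ∈ σ → t' ∈ σ → p ≠ t → q ≠ t → p ≠ t' → q ≠ t' → t ≠ t' →
      ∀ y w : G, orderOf y = t → orderOf w = t' → Commute y w →
        Q ⊓ centralizer {y} ≠ ⊥ → P ⊓ centralizer {y} ≠ ⊥ → False := by
    intro t t' ht ht' hpt hqt hpt' hqt' htt' y w hy hw hyw h1 h2
    obtain ⟨a, -, hao, hya⟩ := exists_orderOf_fix hQp h1
    obtain ⟨v, -, hvo, hyv⟩ := exists_orderOf_fix hP h2
    exact hS.no_three ht hp hq ht' hpt.symm hqt.symm htt' hpq hpt' hqt' hy hvo hao hw hyv hya hyw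
  have excl1 : ∀ {t t' : ℕ}, t ∈ σ → t' ∈ σ → p ≠ t → q ≠ t → p ≠ t' → q ≠ t' → t ≠ t' →
      ∀ y ∈ K, ∀ w ∈ K, orderOf y = t → orderOf w = t' → Commute y w →
        Q ⊓ centralizer {y} ≠ ⊥ → IsAlpha P Q y ∧ IsBeta P Q w := by
    intro t t' ht ht' hpt hqt hpt' hqt' htt' y hy w hw hyo hwo hyw h1
    refine ⟨⟨h1, not_not.mp fun h2 => notBoth ht ht' hpt hqt hpt' hqt' htt' y w hyo hwo hyw h1 h2⟩,
      ?_⟩
    have hwU : w ∈ normalizer ((Q ⊓ centralizer {y} : Subgroup G) : Set G) := by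
      refine Coprime.le_normalizer_of_conj_mem (A := zpowers w) ?_ (mem_zpowers w)
      intro g hg z hz
      obtain ⟨k, rfl⟩ := mem_zpowers_iff.mp hg
      refine ⟨(mem_normalizer_iff.mp (hQn (K.zpow_mem hw k)) z).mp hz.1, commute_iff_mem.mp ?_⟩
      have hk : Commute y (w ^ k) := hyw.zpow_right k
      exact (hk.mul_right (commute_iff_mem.mpr hz.2)).mul_right hk.inv_right
    have hfpf : (Q ⊓ centralizer {y}) ⊓ centralizer {w} = ⊥ := by
      by_contra hne
      obtain ⟨a, ha, hao, hwa⟩ := exists_orderOf_fix (hQp.to_le inf_le_left) hne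
      exact hS.three hq ht ht' hqt htt' hqt' hao hyo hwo (commute_iff_mem.mpr ha.2).symm hyw hwa.symm
    have hPw := fix_ne_bot hwU (fun z _ => hPn (mem_top z)) (hPn (mem_top w))
      (coprime_card_card (hQp.to_le inf_le_left) hP hpq.symm)
      (hwo ▸ coprime_card_of_isPGroup hP (hS.prime t' ht') hpt'.symm)
      (fpf_of_prime (hS.prime t' ht') hwo hfpf) (hQsub inf_le_left h1)
    exact ⟨not_not.mp fun h => notBoth ht' ht hpt' hqt' hpt hqt htt'.symm w y hwo hyo hyw.symm h hPw,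
      hPw⟩
  have excl : ∀ {t t' : ℕ}, t ∈ σ → t' ∈ σ → p ≠ t → q ≠ t → p ≠ t' → q ≠ t' → t ≠ t' →
      ∀ y ∈ K, ∀ w ∈ K, orderOf y = t → orderOf w = t' → Commute y w →
        (IsAlpha P Q y ∧ IsBeta P Q w) ∨ (IsBeta P Q y ∧ IsAlpha P Q w) := by
    intro t t' ht ht' hpt hqt hpt' hqt' htt' y hy w hw hyo hwo hyw
    by_cases h1 : Q ⊓ centralizer {y} = ⊥
    swap
    · exact Or.inl (excl1 ht ht' hpt hqt hpt' hqt' htt' y hy w hw hyo hwo hyw h1)
    by_cases h2 : Q ⊓ centralizer {w} = ⊥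
    swap
    · exact Or.inr (excl1 ht' ht hpt' hqt' hpt hqt htt'.symm w hw y hy hwo hyo hyw.symm h2).symm
    exact (false_of_fpf_pair hS hp ht ht' hpt hpt' htt' hP hPn hyo hwo hyw (hQn hy) (hQn hw)
      (coprime_card_card hQp hP hpq.symm) (hQsub le_rfl hQ1) h1 h2).elim
  obtain ⟨J, hJK, hJ⟩ := exists_isPiHallOf_trans (π' := ({r, s} : Set ℕ))
    (by intro u hu; exact Or.inr hu) hK
  obtain ⟨y, hy, w, hw, hyo, hwo, hyw⟩ := hS.exists_commuting_mem hr hs hrs
    (by simp : r ∈ ({r, s} : Set ℕ)) (by simp) hJ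
  -- `q = 2`
  have hq2 : q = 2 := by
    by_contra hq2
    have halpha : ∀ {t : ℕ}, t ∈ σ → p ≠ t → q ≠ t → ∀ x ∈ K, orderOf x = t → ¬ IsAlpha P Q x := by
      intro t ht hpt hqt x hx hxo hal
      have hmem : x ∈ Q := hCQ ⟨hx, mem_centralizer_iff.mpr fun a ha =>
        (commute_of_fpf hq2 (hS.prime t ht) hqt hQp hxo (hQn hx) (fun z _ => hPn (mem_top z))
          (hPn (mem_top x)) (coprime_card_card hQp hP hpq.symm)
          (coprime_card_of_isPGroup hP (hS.prime t ht) hpt.symm) hal.2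
          (fun z hz => hker z (coreIn_le hz)) ha).symm.eq⟩
      have hd := Q.orderOf_dvd_natCard hmem
      rw [hxo] at hd
      exact (hS.prime t ht).ne_one
        (Nat.eq_one_of_dvd_coprimes (coprime_card_of_isPGroup hQp (hS.prime t ht) hqt.symm) dvd_rfl hd)
    rcases excl hr hs hpr hqr hps hqs hrs y (hJK hy) w (hJK hw) hyo hwo hyw with h | h
    · exact halpha hr hpr hqr y (hJK hy) hyo h.1
    · exact halpha hs hps hqs w (hJK hw) hwo h.2
  -- good elements centralise the other core of `J`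
  have hgood : ∀ {t t' : ℕ} [Fact t'.Prime], t ∈ σ → t' ∈ σ → p ≠ t → q ≠ t → p ≠ t' → q ≠ t' →
      t ≠ t' → ∀ y ∈ J, ∀ w ∈ J, orderOf y = t → orderOf w = t' → Commute y w →
        ∀ z ∈ coreIn t' J, Commute y z := by
    intro t t' _ ht ht' hpt hqt hpt' hqt' htt' y hy w hw hyo hwo hyw z hz
    have ht'2 : t' ≠ 2 := fun e => hqt' (hq2.trans e.symm)
    rcases excl ht ht' hpt hqt hpt' hqt' htt' y (hJK hy) w (hJK hw) hyo hwo hyw with h | h
    · exact commute_of_fpf ht'2 (hS.prime t ht) htt'.symm coreIn_isPGroup hyo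
        (le_normalizer_coreIn hy) (fun z _ => hPn (mem_top z)) (hPn (mem_top y))
        (coprime_card_card coreIn_isPGroup hP hpt'.symm)
        (coprime_card_of_isPGroup hP (hS.prime t ht) hpt.symm) h.1.2
        (fun z hz => hker z (hJK (coreIn_le hz))) hz
    · exact commute_of_fpf ht'2 (hS.prime t ht) htt'.symm coreIn_isPGroup hyo
        (le_normalizer_coreIn hy) (fun z hz => hQn (hJK (coreIn_le hz))) (hQn (hJK hy))
        (coprime_card_card coreIn_isPGroup hQp hqt'.symm)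
        (coprime_card_of_isPGroup hQp (hS.prime t ht) hqt.symm) h.1.1
        (fun z hz hzc => eq_one_of_isPGroup_ne hqt'.symm coreIn_isPGroup hQp hz
          (hCQ ⟨hJK (coreIn_le hz), hzc⟩)) hz
  have hcore_ne : ∀ {t t' : ℕ} [Fact t.Prime] [Fact t'.Prime], t ∈ σ → t' ∈ σ → p ≠ t → q ≠ t →
      p ≠ t' → q ≠ t' → t ≠ t' → ({r, s} : Set ℕ) ⊆ {t, t'} → ∀ y ∈ J, ∀ w ∈ J, orderOf y = t →
      orderOf w = t' → Commute y w → coreIn t J ≠ ⊥ := by
    intro t t' _ _ ht ht' hpt hqt hpt' hqt' htt' hsub y hy w hw hyo hwo hyw he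
    have hle : J ⊓ centralizer (coreIn t' J : Set G) ≤ coreIn t' J := by
      refine centralizer_cores_le coreIn_le fun u hu => ?_
      haveI := Fact.mk hu
      rcases eq_or_ne (coreIn u J) ⊥ with h | h
      · rw [h]; exact bot_le
      · obtain ⟨x, hx, hxo⟩ := exists_orderOf coreIn_isPGroup h
        rcases hsub (hJ.1 u hu (hxo ▸ J.orderOf_dvd_natCard (coreIn_le hx))) with h' | h'
        · exact absurd he (h' ▸ h)
        · rw [show u = t' from h']
    have hyS : y ∈ coreIn t' J := hle ⟨hy, mem_centralizer_iff.mpr fun z hz =>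
      (hgood ht ht' hpt hqt hpt' hqt' htt' y hy w hw hyo hwo hyw z hz).symm.eq⟩
    have hd := (coreIn t' J).orderOf_dvd_natCard hyS
    rw [hyo] at hd
    exact (hS.prime t ht).ne_one (Nat.eq_one_of_dvd_coprimes
      (coprime_card_of_isPGroup coreIn_isPGroup (hS.prime t ht) htt') dvd_rfl hd)
  have hR1 := hcore_ne hr hs hpr hqr hps hqs hrs (fun _ h => h) y hy w hw hyo hwo hyw
  have hS1 := hcore_ne hs hr hps hqs hpr hqr hrs.symm
    (fun u h => by rcases h with h | h <;> simp_all) w hw y hy hwo hyo hyw.symm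
  -- main argument
  suffices main : ∀ {t t' : ℕ} [Fact t.Prime] [Fact t'.Prime], t ∈ σ → t' ∈ σ → p ≠ t → q ≠ t →
      p ≠ t' → q ≠ t' → t ≠ t' → t ∈ ({r, s} : Set ℕ) → t' ∈ ({r, s} : Set ℕ) →
      ∀ a ∈ coreIn t J, orderOf a = t → IsAlpha P Q a → coreIn t' J ≠ ⊥ → False by
    obtain ⟨a, ha, hao⟩ := exists_orderOf coreIn_isPGroup hR1
    obtain ⟨z, hz, hzo⟩ := exists_orderOf coreIn_isPGroup hS1
    have haz : Commute a z := commute_of_inf_eq_bot coreIn_le coreIn_le le_normalizer_coreIn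
      le_normalizer_coreIn (inf_eq_bot_of_ne hrs coreIn_isPGroup coreIn_isPGroup) ha hz
    rcases excl hr hs hpr hqr hps hqs hrs a (hJK (coreIn_le ha)) z (hJK (coreIn_le hz)) hao hzo haz
      with h | h
    · exact main hr hs hpr hqr hps hqs hrs (by simp) (by simp) a ha hao h.1 hS1
    · exact main hs hr hps hqs hpr hqr hrs.symm (by simp) (by simp) z hz hzo h.2 hR1
  intro t t' _ _ ht ht' hpt hqt hpt' hqt' htt' htm htm' a ha hao hal hS1
  have htp : t.Prime := Fact.out
  have ht'p : t'.Prime := Fact.out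
  have hcomm : ∀ x ∈ coreIn t J, ∀ z ∈ coreIn t' J, Commute x z := fun x hx z hz =>
    commute_of_inf_eq_bot coreIn_le coreIn_le le_normalizer_coreIn le_normalizer_coreIn
      (inf_eq_bot_of_ne htt' coreIn_isPGroup coreIn_isPGroup) hx hz
  have hnot : ∀ {x : G}, IsAlpha P Q x → ¬ IsBeta P Q x := fun h h' => h.1 h'.1
  have hbeta : ∀ z ∈ coreIn t' J, orderOf z = t' → IsBeta P Q z := by
    intro z hz hzo
    rcases excl ht ht' hpt hqt hpt' hqt' htt' a (hJK (coreIn_le ha)) z (hJK (coreIn_le hz)) hao hzo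
      (hcomm a ha z hz) with h | h
    exacts [h.2, (hnot hal h.1).elim]
  obtain ⟨z, hz, hzo⟩ := exists_orderOf coreIn_isPGroup hS1
  have halpha : ∀ x ∈ J, orderOf x = t → Commute x z → IsAlpha P Q x := by
    intro x hx hxo hxz
    rcases excl ht ht' hpt hqt hpt' hqt' htt' x (hJK hx) z (hJK (coreIn_le hz)) hxo hzo hxz with h | h
    exacts [h.1, (hnot h.2 (hbeta z hz hzo)).elim]
  have hbeta' : ∀ x ∈ J, orderOf x = t' → Commute x a → IsBeta P Q x := by
    intro x hx hxo hxa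
    rcases excl ht' ht hpt' hqt' hpt hqt htt'.symm x (hJK hx) a (hJK (coreIn_le ha)) hxo hao hxa
      with h | h
    exacts [(hnot hal h.2).elim, h.1]
  have hR1u : ∀ x ∈ coreIn t J, ∀ x' ∈ coreIn t J, orderOf x = t → orderOf x' = t →
      x ∈ zpowers x' := by
    refine (exists_pair_or_unique coreIn_isPGroup).resolve_left ?_
    rintro ⟨e₁, e₂, h1, h2, he⟩
    obtain ⟨e, hem, he1, hfix⟩ := he.exists_fix htp (coprime_card_of_isPGroup hP htp hpt.symm)
      (hPn (mem_top _)) (hPn (mem_top _)) hP1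
    have heR : e ∈ coreIn t J := (closure_le _).mpr (by rintro x (rfl | rfl) <;> assumption) hem
    exact hfix (halpha e (coreIn_le heR) (he.orderOf_eq htp hem he1) (hcomm e heR z hz)).2
  have hS1u : ∀ x ∈ coreIn t' J, ∀ x' ∈ coreIn t' J, orderOf x = t' → orderOf x' = t' →
      x ∈ zpowers x' := by
    refine (exists_pair_or_unique coreIn_isPGroup).resolve_left ?_
    rintro ⟨e₁, e₂, h1, h2, he⟩
    obtain ⟨e, hem, he1, hfix⟩ := he.exists_fix ht'p (coprime_card_of_isPGroup hQp ht'p hqt'.symm)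
      (hQn (hJK (coreIn_le h1))) (hQn (hJK (coreIn_le h2))) hQ1
    have heS : e ∈ coreIn t' J := (closure_le _).mpr (by rintro x (rfl | rfl) <;> assumption) hem
    exact hfix (hbeta e heS (he.orderOf_eq ht'p hem he1)).1
  obtain ⟨e₁, he₁, e₂, he₂, he⟩ := hS.exists_pair ht hp hq ht' hpt.symm hqt.symm htt' hpq hpt' hqt'
    htm hJ
  obtain ⟨f₁, hf₁, f₂, hf₂, hf⟩ := hS.exists_pair ht' hp hq ht hpt'.symm hqt'.symm htt'.symm hpq hpt
    hqt htm' hJ
  have hEJ : closure ({e₁, e₂} : Set G) ≤ J :=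
    (closure_le J).mpr (by rintro x (rfl | rfl) <;> assumption)
  have hFJ : closure ({f₁, f₂} : Set G) ≤ J :=
    (closure_le J).mpr (by rintro x (rfl | rfl) <;> assumption)
  obtain ⟨e, hem, he1, hfix⟩ := he.exists_fix htp (coprime_card_of_isPGroup hP htp hpt.symm)
    (hPn (mem_top _)) (hPn (mem_top _)) hP1
  obtain ⟨f, hfm, hf1, hfix'⟩ := hf.exists_fix ht'p (coprime_card_of_isPGroup hQp ht'p hqt'.symm)
    (hQn (hJK hf₁)) (hQn (hJK hf₂)) hQ1
  have h1 : t ∣ t' - 1 := dvd_sub_one htp ht'p (he.orderOf_eq htp hem he1) hzo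
    (normalizer_zpowers_of_unique le_normalizer_coreIn hS1u hz hzo (hEJ hem))
    (fun h => hfix (halpha e (hEJ hem) (he.orderOf_eq htp hem he1) h).2)
  have h2 : t' ∣ t - 1 := dvd_sub_one ht'p htp (hf.orderOf_eq ht'p hfm hf1) hao
    (normalizer_zpowers_of_unique le_normalizer_coreIn hR1u ha hao (hFJ hfm))
    (fun h => hfix' (hbeta' f (hFJ hfm) (hf.orderOf_eq ht'p hfm hf1) h).1)
  have := Nat.le_of_dvd (by have := ht'p.two_le; omega) h1
  have := Nat.le_of_dvd (by have := htp.two_le; omega) h2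
  omega

theorem fitting_le {K S : Subgroup G} (h : ∀ u : ℕ, u.Prime → coreIn u K ≤ S) :
    Cfsg.fittingSubgroup ↥K ≤ S.subgroupOf K := by
  rw [Fitting.fittingSubgroup_eq_iSup_pCore]
  exact iSup_le fun u y hy => h u u.2 ⟨y, hy, rfl⟩

/-- The `u`-elements of a product of a `u`-group and a `v`-group lie in the first. -/
theorem mem_of_mem_sup {u v : ℕ} [Fact u.Prime] [Fact v.Prime] (huv : u ≠ v) {U V : Subgroup G}
    (hU : IsPGroup u U) (hV : IsPGroup v V) (hcomm : ∀ a ∈ U, ∀ b ∈ V, Commute a b) {x : G}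
    {k : ℕ} (hx : x ^ u ^ k = 1) (hmem : x ∈ U ⊔ V) : x ∈ U := by
  rw [← SetLike.mem_coe, coe_mul_of_left_le_normalizer_right U V
    (fun a ha => Coprime.le_normalizer_of_conj_mem (A := U) (fun g hg b hb => by
      rw [(hcomm g hg b hb).eq, mul_inv_cancel_right]; exact hb) ha)] at hmem
  obtain ⟨a, ha, b, hb, rfl⟩ := hmem
  have hpow : a ^ u ^ k * b ^ u ^ k = 1 := by
    rw [← (hcomm a ha b hb).mul_pow]; exact hx
  have h1 : b ^ u ^ k = 1 := eq_one_of_isPGroup_ne huv hU hV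
    (by rw [← inv_eq_of_mul_eq_one_right hpow]; exact U.inv_mem (U.pow_mem ha _)) (V.pow_mem hb _)
  obtain ⟨m, hm⟩ := IsPGroup.iff_orderOf.mp hV (⟨b, hb⟩ : V)
  rw [Subgroup.orderOf_mk] at hm
  have hb1 : b = 1 := orderOf_eq_one_iff.mp (Nat.eq_one_of_dvd_coprimes
    ((((Nat.coprime_primes (Fact.out : v.Prime) (Fact.out : u.Prime)).mpr huv.symm).pow_left m).pow_right k)
    hm.dvd (orderOf_dvd_of_pow_eq_one h1))
  show a * b ∈ U
  rw [hb1, mul_one]
  exact ha

/-- `F(K)` has two primes, the second with a unique subgroup of prime order. -/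
theorem false_of_two_cores (hS : Spec G σ) {p q r s : ℕ} [Fact p.Prime] [Fact q.Prime]
    [Fact r.Prime] [Fact s.Prime] (hp : p ∈ σ) (hq : q ∈ σ) (hr : r ∈ σ) (hs : s ∈ σ)
    (hpq : p ≠ q) (hpr : p ≠ r) (hps : p ≠ s) (hqr : q ≠ r) (hqs : q ≠ s) (hrs : r ≠ s)
    {P K : Subgroup G} (hP : IsPGroup p P) (hPn : ⊤ ≤ normalizer (P : Set G))
    (hK : Cfsg.IsPiHall ({q, r, s} : Set ℕ) K) (hKP : K ⊓ centralizer (P : Set G) = ⊥)
    (hQ1 : coreIn q K ≠ ⊥) (hR1 : coreIn r K ≠ ⊥)
    (huniq : ∀ x ∈ coreIn r K, ∀ y ∈ coreIn r K, orderOf x = r → orderOf y = r → x ∈ zpowers y) :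
    False := by
  have hrp : r.Prime := Fact.out
  have hsp : s.Prime := Fact.out
  set Q := coreIn q K with hQdef
  set R := coreIn r K with hRdef
  have hQp : IsPGroup q Q := coreIn_isPGroup
  have hRp : IsPGroup r R := coreIn_isPGroup
  have hQn : ∀ {x : G}, x ∈ K → x ∈ normalizer (Q : Set G) := fun hx => le_normalizer_coreIn hx
  have hQR : ∀ a ∈ Q, ∀ c ∈ R, Commute a c := fun a ha c hc =>
    commute_of_inf_eq_bot coreIn_le coreIn_le le_normalizer_coreIn le_normalizer_coreIn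
      (inf_eq_bot_of_ne hqr hQp hRp) ha hc
  obtain ⟨a₀, ha₀, ha₀o⟩ := exists_orderOf hQp hQ1
  obtain ⟨b, hb, hbo⟩ := exists_orderOf hRp hR1
  have hcores : ∀ u : ℕ, u.Prime → coreIn u K ≤ Q ⊔ R := by
    intro u hu
    haveI := Fact.mk hu
    rcases eq_or_ne (coreIn u K) ⊥ with h | h
    · rw [h]; exact bot_le
    obtain ⟨x, hx, hxo⟩ := exists_orderOf coreIn_isPGroup h
    rcases hK.1 u hu (hxo ▸ K.orderOf_dvd_natCard (coreIn_le hx)) with rfl | rfl | hus
    · exact le_sup_left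
    · exact le_sup_right
    · have hus : u = s := hus
      exact (hS.three hq hr hs hqr hrs hqs ha₀o hbo (hxo.trans hus) (hQR _ ha₀ _ hb)
        (commute_of_inf_eq_bot coreIn_le coreIn_le le_normalizer_coreIn le_normalizer_coreIn
          (inf_eq_bot_of_ne (hus ▸ hrs) hRp coreIn_isPGroup) hb hx)
        (commute_of_inf_eq_bot coreIn_le coreIn_le le_normalizer_coreIn le_normalizer_coreIn
          (inf_eq_bot_of_ne (hus ▸ hqs) hQp coreIn_isPGroup) ha₀ hx)).elim
  have hbn : ∀ {g : G}, g ∈ K → g ∈ normalizer ((zpowers b : Subgroup G) : Set G) := fun hg =>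
    normalizer_zpowers_of_unique le_normalizer_coreIn huniq hb hbo hg
  have hfQ : ∀ x : G, orderOf x = s → Commute x b → Q ⊓ centralizer {x} = ⊥ := by
    intro x hxo hxb
    by_contra hne
    obtain ⟨a, ha, hao, hxa⟩ := exists_orderOf_fix hQp hne
    exact hS.three hq hr hs hqr hrs hqs hao hbo hxo (hQR a ha b hb) hxb.symm hxa.symm
  obtain ⟨f₁, hf₁, f₂, hf₂, hf⟩ := hS.exists_pair hs hp hq hr hps.symm hqs.symm hrs.symm hpq hpr hqr
    (by simp : s ∈ ({q, r, s} : Set ℕ)) hK
  have hFK : closure ({f₁, f₂} : Set G) ≤ K :=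
    (closure_le K).mpr (by rintro x (rfl | rfl) <;> assumption)
  -- `s ∣ r - 1`
  have hsr : s ∣ r - 1 := by
    obtain ⟨f, hfm, hf1, hfix⟩ := hf.exists_fix hsp (coprime_card_of_isPGroup hQp hsp hqs.symm)
      (hQn hf₁) (hQn hf₂) hQ1
    exact dvd_sub_one hsp hrp (hf.orderOf_eq hsp hfm hf1) hbo (hbn (hFK hfm))
      (fun h => hfix (hfQ f (hf.orderOf_eq hsp hfm hf1) h))
  have hslt : s ≤ r - 1 := Nat.le_of_dvd (by have := hrp.two_le; omega) hsr
  have hr2 : r ≠ 2 := fun e => by have := hsp.two_le; omega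
  obtain ⟨f₀, hf₀m, hf₀1, hfix₀⟩ := hf.exists_fix hsp (K := zpowers b)
    (by rw [Nat.card_zpowers, hbo]; exact (Nat.coprime_primes hsp hrp).mpr hrs.symm)
    (hbn hf₁) (hbn hf₂) (by rw [Ne, zpowers_eq_bot]; intro e; exact hrp.ne_one (by rw [← hbo, e, orderOf_one]))
  have hf₀o := hf.orderOf_eq hsp hf₀m hf₀1
  have hf₀b : Commute f₀ b := by
    obtain ⟨x, hx, hxo, hfx⟩ := exists_orderOf_fix (p := r) (H := zpowers b)
      (IsPGroup.iff_card.mpr ⟨1, by rw [Nat.card_zpowers, hbo, pow_one]⟩) hfix₀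
    obtain ⟨k, hk⟩ := mem_zpowers_iff.mp (huniq b hb x (zpowers_le.mpr hb hx) hbo hxo)
    exact hk ▸ hfx.zpow_right k
  -- the `r`-element `y` with a commuting `p`-element
  obtain ⟨y, hy, u, hyo, huo, hyu⟩ := hS.exists_commuting_left hr hp hpr.symm
    (by simp : r ∈ ({q, r, s} : Set ℕ)) hK
  have hyb : Commute y b := by
    by_contra h
    have := Nat.le_of_dvd (by have := hrp.two_le; omega) (dvd_sub_one hrp hrp hyo hbo (hbn hy) h)
    omega
  set L := K ⊓ centralizer ({b} : Set G) with hL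
  have hyL : y ∈ L := ⟨hy, commute_iff_mem.mp hyb.symm⟩
  have hf₀L : f₀ ∈ L := ⟨hFK hf₀m, commute_iff_mem.mp hf₀b.symm⟩
  obtain ⟨J₀, hJ₀, hJ₀y⟩ := Hall.exists_isPiHall_ge (G := L) (π := ({r, s} : Set ℕ))
    (U := zpowers (⟨y, hyL⟩ : L)) (by
      rw [Nat.card_zpowers, Subgroup.orderOf_mk, hyo, ← pow_one r]
      exact Hall.isPiNumber_pow_prime hrp (by simp) 1)
  set J := J₀.map L.subtype with hJdef
  have hyJ : y ∈ J := ⟨⟨y, hyL⟩, hJ₀y (mem_zpowers _), rfl⟩
  have hJL : J ≤ L := map_subtype_le _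
  have hJpi : ∀ v : ℕ, v.Prime → v ∣ Nat.card J → v = r ∨ v = s := by
    intro v hv hd
    rw [card_map_of_injective L.subtype_injective] at hd
    exact hJ₀.1 v hv hd
  obtain ⟨f, hfJ, hfo⟩ : ∃ f ∈ J, orderOf f = s := by
    have hd : s ∣ Nat.card J₀ := by
      have h := L.orderOf_dvd_natCard hf₀L
      rw [hf₀o, ← J₀.card_mul_index] at h
      exact (hsp.dvd_mul.mp h).resolve_right fun h' => ((Hall.isPiHall_iff _).mp hJ₀).2 s hsp h' (by simp)
    obtain ⟨f, hf⟩ := exists_prime_orderOf_dvd_card' (G := J₀) s hd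
    exact ⟨((f : L) : G), ⟨(f : L), f.2, rfl⟩, by rw [Subgroup.orderOf_coe, Subgroup.orderOf_coe, hf]⟩
  have hbJ : ∀ {x : G}, x ∈ J → Commute x b := fun hx => (commute_iff_mem.mpr (hJL hx).2).symm
  -- `f` centralises `R` and the `r`-core of `J`
  have hcent_R : ∀ {g : G}, g ∈ K → Commute g b → (orderOf g).Coprime r → ∀ x ∈ R, Commute g x := by
    intro g hg hgb hgo x hx
    refine CoprimeOmega.commute_of_commute_order_p hr2 hgo hRp
      (fun z hz => (mem_normalizer_iff.mp (le_normalizer_coreIn hg) z).mp hz) (fun z hz hzr => ?_) x hx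
    rcases eq_or_ne z 1 with rfl | hz1
    · simp
    · obtain ⟨k, hk⟩ := mem_zpowers_iff.mp (huniq z hz b hb (orderOf_eq_prime hzr hz1) hbo)
      exact hk ▸ (hgb.zpow_right k).eq
  -- elements of `r`-power order of `L` centralising `Q` lie in `R`
  have hker : ∀ x ∈ L, ∀ k : ℕ, x ^ r ^ k = 1 → x ∈ centralizer (Q : Set G) → x ∈ R := by
    intro x hx k hk hxc
    set Y := L ⊓ centralizer (Q : Set G) with hY
    have hYn : K ≤ normalizer (Y : Set G) := by
      refine Coprime.le_normalizer_of_conj_mem fun g hg z hz => ⟨⟨?_, ?_⟩, ?_⟩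
      · exact K.mul_mem (K.mul_mem hg hz.1.1) (K.inv_mem hg)
      · refine commute_iff_mem.mp ?_
        have h1 : g⁻¹ * b * g ∈ zpowers b := by
          simpa using (mem_normalizer_iff.mp (hbn (K.inv_mem hg)) b).mp (mem_zpowers b)
        obtain ⟨m, hm⟩ := mem_zpowers_iff.mp h1
        have h2 : Commute (g⁻¹ * b * g) z := hm ▸ (commute_iff_mem.mpr hz.1.2).zpow_left m
        show b * (g * z * g⁻¹) = g * z * g⁻¹ * b
        calc b * (g * z * g⁻¹) = g * (g⁻¹ * b * g * z) * g⁻¹ := by group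
          _ = g * z * g⁻¹ * b := by rw [h2.eq]; group
      · refine mem_centralizer_iff.mpr fun a ha => ?_
        have h1 : g⁻¹ * a * g ∈ Q := by
          simpa using (mem_normalizer_iff.mp (hQn (K.inv_mem hg)) a).mp ha
        calc a * (g * z * g⁻¹) = g * (g⁻¹ * a * g * z) * g⁻¹ := by group
          _ = g * z * g⁻¹ * a := by rw [mem_centralizer_iff.mp hz.2 _ h1]; group
    haveI : (Y.subgroupOf K).Normal := normal_subgroupOf_of_le_normalizer hYn
    have hYK : Y ≤ K := fun z hz => hz.1.1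
    haveI : Group.IsNilpotent (Y.subgroupOf K) := by
      refine Group.of_quotient_center_nilpotent ?_
      refine IsPGroup.isNilpotent (p := r) ?_
      intro gq
      obtain ⟨g, rfl⟩ := QuotientGroup.mk_surjective gq
      set z : G := ((g : K) : G) with hzdef
      have hzY : z ∈ Y := g.2
      obtain ⟨m, n, hn, hmn⟩ := Nat.exists_eq_pow_mul_and_not_dvd (orderOf_pos z).ne' r hrp.ne_one
      refine ⟨m, ?_⟩
      rw [← QuotientGroup.mk_pow, QuotientGroup.eq_one_iff, mem_center_iff]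
      intro h
      refine Subtype.ext (Subtype.ext ?_)
      show ((h : K) : G) * z ^ r ^ m = z ^ r ^ m * ((h : K) : G)
      set c := z ^ r ^ m with hcdef
      have hc : c ^ n = 1 := by rw [hcdef, ← pow_mul, ← hmn, pow_orderOf_eq_one]
      have hcY : c ∈ Y := Y.pow_mem hzY _
      -- the order of `c` is a power of `q`
      have hco : ∀ v : ℕ, v.Prime → v ∣ orderOf c → v = q := by
        intro v hv hd
        have hvK : v ∣ Nat.card K := hd.trans (K.orderOf_dvd_natCard (hYK hcY))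
        rcases hK.1 v hv hvK with rfl | rfl | hvs
        · rfl
        · exact absurd ((hd.trans (orderOf_dvd_of_pow_eq_one hc))) hn
        · have hvs : v = s := hvs
          exfalso
          obtain ⟨d, hd'⟩ := hd
          have hfix := hfQ (c ^ d) (by
            rw [← hvs, orderOf_pow_of_dvd (fun e => by
              have := orderOf_pos c
              rw [hd', e, mul_zero] at this
              exact lt_irrefl _ this) (hd'.symm ▸ dvd_mul_left d v), hd',
              Nat.mul_div_cancel v (Nat.pos_of_ne_zero fun e => by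
                have := orderOf_pos c
                rw [hd', e, mul_zero] at this
                exact lt_irrefl _ this)])
            (((commute_iff_mem.mpr hcY.1.2).symm).pow_left d)
          have : a₀ ∈ Q ⊓ centralizer {c ^ d} :=
            ⟨ha₀, commute_iff_mem.mp ((show Commute a₀ c from
              mem_centralizer_iff.mp hcY.2 a₀ ha₀).symm.pow_left d)⟩
          rw [hfix, mem_bot] at this
          rw [this, orderOf_one] at ha₀o
          exact (Fact.out : q.Prime).ne_one ha₀o.symm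
      obtain ⟨l, hl⟩ : ∃ l, orderOf c = q ^ l :=
        ⟨_, Nat.eq_prime_pow_of_unique_prime_dvd (orderOf_pos c).ne' (fun {v} hv hd => hco v hv hd)⟩
      have hcR : ∀ e ∈ R, Commute c e := hcent_R (hYK hcY) (commute_iff_mem.mpr hcY.1.2).symm
        (by rw [hl]; exact ((Nat.coprime_primes (Fact.out : q.Prime) hrp).mpr hqr).pow_left _)
      have hcQ : c ∈ Q := by
        refine mem_of_mem_sup hqr hQp hRp hQR (k := l) (hl ▸ pow_orderOf_eq_one c)
          (centralizer_cores_le (sup_le coreIn_le coreIn_le) hcores ⟨hYK hcY, ?_⟩)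
        refine le_centralizer_iff.mp (sup_le ?_ ?_) (mem_zpowers c)
        · exact fun a ha => mem_centralizer_iff.mpr fun w hw => by
            obtain ⟨i, rfl⟩ := mem_zpowers_iff.mp hw
            exact (((show Commute a c from mem_centralizer_iff.mp hcY.2 a ha)).symm.zpow_left i).eq
        · exact fun e he => mem_centralizer_iff.mpr fun w hw => by
            obtain ⟨i, rfl⟩ := mem_zpowers_iff.mp hw
            exact ((hcR e he).zpow_left i).eq
      exact (mem_centralizer_iff.mp (show ((h : K) : G) ∈ Y from h.2).2 c hcQ).symm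
    have hle := (Fitting.le_fittingSubgroup (N := Y.subgroupOf K) inferInstance).trans
      (fitting_le hcores)
    have hxQR : x ∈ R ⊔ Q := sup_comm Q R ▸ hle
      (show (⟨x, hx.1⟩ : K) ∈ Y.subgroupOf K from ⟨hx, hxc⟩)
    exact mem_of_mem_sup hqr.symm hRp hQp (fun c hc a ha => (hQR a ha c hc).symm) hk hxQR
  have hfK : f ∈ K := (hJL hfJ).1
  have hfR : ∀ x ∈ R, Commute f x := hcent_R hfK (hbJ hfJ)
    (hfo ▸ (Nat.coprime_primes hsp hrp).mpr hrs.symm)
  have hfU : ∀ x ∈ coreIn r J, Commute f x := by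
    have h1 : ⁅coreIn r J, zpowers f⁆ ≤ R := by
      have hn : zpowers f ≤ normalizer (coreIn r J : Set G) :=
        zpowers_le.mpr (le_normalizer_coreIn hfJ)
      intro c hc
      have hcU := Coprime.commutator_le_of_le_normalizer hn hc
      have hcC := commutator_mem_centralizer (P := Q) hr2 hsp hrs coreIn_isPGroup hfo
        (le_normalizer_coreIn hfJ) (fun z hz => hQn (hJL (coreIn_le hz)).1) (hQn hfK)
        (coprime_card_card coreIn_isPGroup hQp hqr.symm) (coprime_card_of_isPGroup hQp hsp hqs.symm)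
        (hfQ f hfo (hbJ hfJ)) hc
      obtain ⟨k, hk⟩ := coreIn_isPGroup (⟨c, hcU⟩ : coreIn r J)
      exact hker c (hJL (coreIn_le hcU)) k (by simpa using congrArg Subtype.val hk) hcC
    have h2 : zpowers f ≤ centralizer (coreIn r J : Set G) := by
      refine Coprime.le_centralizer_of_stabilizes h1 ?_ ?_
      · exact zpowers_le.mpr (mem_centralizer_iff.mpr fun x hx => (hfR x hx).symm.eq)
      · rw [Nat.card_zpowers, hfo]; exact coprime_card_of_isPGroup hRp hsp hrs.symm
    exact fun x hx => (show Commute x f from mem_centralizer_iff.mp (h2 (mem_zpowers f)) x hx).symm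
  have hS2 : coreIn s J ≠ ⊥ := by
    intro he
    have hle : J ⊓ centralizer (coreIn r J : Set G) ≤ coreIn r J := by
      refine centralizer_cores_le coreIn_le fun v hv => ?_
      haveI := Fact.mk hv
      rcases eq_or_ne (coreIn v J) ⊥ with h | h
      · rw [h]; exact bot_le
      · obtain ⟨x, hx, hxo⟩ := exists_orderOf coreIn_isPGroup h
        rcases hJpi v hv (hxo ▸ J.orderOf_dvd_natCard (coreIn_le hx)) with rfl | rfl
        · exact le_rfl
        · exact absurd he h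
    have hfmem : f ∈ coreIn r J := hle ⟨hfJ, mem_centralizer_iff.mpr fun x hx => (hfU x hx).symm.eq⟩
    have hd := (coreIn r J).orderOf_dvd_natCard hfmem
    rw [hfo] at hd
    exact hsp.ne_one (Nat.eq_one_of_dvd_coprimes
      (coprime_card_of_isPGroup coreIn_isPGroup hsp hrs.symm) dvd_rfl hd)
  obtain ⟨z, hz, hzo⟩ := exists_orderOf coreIn_isPGroup hS2
  have hS2u : ∀ x ∈ coreIn s J, ∀ x' ∈ coreIn s J, orderOf x = s → orderOf x' = s →
      x ∈ zpowers x' := by
    refine (exists_pair_or_unique coreIn_isPGroup).resolve_left ?_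
    rintro ⟨g₁, g₂, h1, h2, hg⟩
    obtain ⟨g, hgm, hg1, hfix⟩ := hg.exists_fix hsp (coprime_card_of_isPGroup hQp hsp hqs.symm)
      (hQn (hJL (coreIn_le h1)).1) (hQn (hJL (coreIn_le h2)).1) hQ1
    have hgS : g ∈ coreIn s J := (closure_le _).mpr (by rintro x (rfl | rfl) <;> assumption) hgm
    exact hfix (hfQ g (hg.orderOf_eq hsp hgm hg1) (hbJ (coreIn_le hgS)))
  have hyz : Commute y z := by
    by_contra h
    have := Nat.le_of_dvd (by have := hsp.two_le; omega) (dvd_sub_one hrp hsp hyo hzo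
      (normalizer_zpowers_of_unique le_normalizer_coreIn hS2u hz hzo hyJ) h)
    omega
  have hQy : Q ⊓ centralizer {y} = ⊥ := by
    by_contra hne
    obtain ⟨a, -, hao, hya⟩ := exists_orderOf_fix hQp hne
    exact hS.no_three hr hp hq hs hpr.symm hqr.symm hrs hpq hps hqs hyo huo hao hzo hyu hya hyz
  refine false_of_fpf_pair hS hp hr hs hpr hps hrs hP hPn hyo hzo hyz (hQn hy)
    (hQn (hJL (coreIn_le hz)).1) (coprime_card_card hQp hP hpq.symm) ?_ hQy
    (hfQ z hzo (hbJ (coreIn_le hz)))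
  intro hle
  have : a₀ ∈ K ⊓ centralizer (P : Set G) := ⟨coreIn_le ha₀, hle ha₀⟩
  rw [hKP, mem_bot] at this
  rw [this, orderOf_one] at ha₀o
  exact (Fact.out : q.Prime).ne_one ha₀o.symm

end Cfsg.Agent.Lib.PairSpectrum
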