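import Cfsg.Agent.Lib.PairSpectrum.Basic

/-!
# The hypothesis, Hall subgroups, and the absence of three primes in a centraliser
-/

set_option autoImplicit false
set_option linter.style.haveILetI false

namespace Cfsg.Agent.Lib.PairSpectrum

open Subgroup
open scoped Pointwise
open Cfsg.Agent.Lib

universe u

variable {G : Type u} [Group G] [Finite G]

theorem core_normal {p : ℕ} {X : Type*} [Group X] : (Cfsg.pCore p X).Normal :=
  Subgroup.sSup_normal _ fun _ h => h.1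

/-- The `p`-core of a subgroup, as a subgroup of the ambient group. -/
def coreIn (p : ℕ) (K : Subgroup G) : Subgroup G := (Cfsg.pCore p ↥K).map K.subtype

omit [Finite G] in
theorem coreIn_le {p : ℕ} {K : Subgroup G} : coreIn p K ≤ K := map_subtype_le _

theorem coreIn_isPGroup {p : ℕ} [Fact p.Prime] {K : Subgroup G} : IsPGroup p (coreIn p K) :=
  PSolvable.pCore_isPGroup.map _

omit [Finite G] in
theorem le_normalizer_coreIn {p : ℕ} {K : Subgroup G} :
    K ≤ normalizer (coreIn p K : Set G) := by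
  refine Coprime.le_normalizer_of_conj_mem ?_
  rintro a ha _ ⟨x, hx, rfl⟩
  exact ⟨⟨a, ha⟩ * x * ⟨a, ha⟩⁻¹, core_normal.conj_mem x hx ⟨a, ha⟩, rfl⟩

/-- A normal `p`-subgroup of `K` lies in its `p`-core. -/
theorem le_coreIn {p : ℕ} [Fact p.Prime] {K U : Subgroup G} (hU : IsPGroup p U) (hUK : U ≤ K)
    (hn : K ≤ normalizer (U : Set G)) : U ≤ coreIn p K := by
  haveI : (U.subgroupOf K).Normal := normal_subgroupOf_of_le_normalizer hn
  intro x hx
  exact ⟨⟨x, hUK hx⟩, PSolvable.le_pCore (hU.of_equiv (subgroupOfEquivOfLe hUK).symm)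
    (show (⟨x, hUK hx⟩ : K) ∈ U.subgroupOf K from hx), rfl⟩

/-- A solvable group centralising its cores lies in their join. -/
theorem centralizer_cores_le [Group.IsSolvable G] {K S : Subgroup G} (hSK : S ≤ K)
    (h : ∀ u : ℕ, u.Prime → coreIn u K ≤ S) : K ⊓ centralizer (S : Set G) ≤ S := by
  intro x hx
  have hF : Cfsg.fittingSubgroup ↥K ≤ S.subgroupOf K := by
    rw [Fitting.fittingSubgroup_eq_iSup_pCore]
    refine iSup_le fun u y hy => ?_
    exact h u u.2 ⟨y, hy, rfl⟩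
  have hC : (⟨x, hx.1⟩ : K) ∈ centralizer (Cfsg.fittingSubgroup ↥K : Set K) :=
    mem_centralizer_iff.mpr fun y hy => Subtype.ext (mem_centralizer_iff.mp hx.2 y (hF hy))
  exact hF (Fitting.centralizer_fittingSubgroup_le hC)

theorem exists_coreIn_ne_bot [Group.IsSolvable G] {K : Subgroup G} (hK : K ≠ ⊥) :
    ∃ u : ℕ, u.Prime ∧ u ∣ Nat.card K ∧ coreIn u K ≠ ⊥ := by
  by_contra hc
  push Not at hc
  refine hK (eq_bot_iff.mpr fun x hx => ?_)
  refine centralizer_cores_le (S := ⊥) bot_le (fun u hu => ?_) ⟨hx, ?_⟩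
  · haveI := Fact.mk hu
    by_cases hd : u ∣ Nat.card K
    · exact (hc u hu hd).le
    · intro y hy
      by_contra h1
      obtain ⟨k, hk⟩ := IsPGroup.iff_orderOf.mp coreIn_isPGroup (⟨y, hy⟩ : coreIn u K)
      rw [Subgroup.orderOf_mk] at hk
      rcases k.eq_zero_or_pos with rfl | hkpos
      · exact h1 (mem_bot.mpr (orderOf_eq_one_iff.mp (by simpa using hk)))
      · exact hd (((dvd_pow_self u hkpos.ne').trans hk.symm.dvd).trans
          (K.orderOf_dvd_natCard (coreIn_le hy)))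
  · exact mem_centralizer_iff.mpr fun y hy => by rw [mem_bot.mp hy, one_mul, mul_one]

/-- An element of prime power order `≠ 1` in `U`, and its power of prime order. -/
theorem exists_prime_orderOf_zpowers {x : G} (hx : x ≠ 1) :
    ∃ u : ℕ, u.Prime ∧ u ∣ orderOf x ∧ ∃ y ∈ zpowers x, orderOf y = u := by
  have h1 : orderOf x ≠ 1 := fun e => hx (orderOf_eq_one_iff.mp e)
  obtain ⟨u, hu, hd⟩ := Nat.exists_prime_and_dvd h1
  exact ⟨u, hu, hd, x ^ (orderOf x / u), pow_mem (mem_zpowers x) _, orderOf_pow_orderOf_div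
    (orderOf_pos x).ne' hd⟩

/-- Two of any three primes dividing the order of a solvable group are orders of commuting
elements. -/
theorem exists_commuting [Group.IsSolvable G] {u v w : ℕ} (hu : u.Prime) (hv : v.Prime)
    (hw : w.Prime) (huv : u ≠ v) (huw : u ≠ w) (hvw : v ≠ w) {M : Subgroup G}
    (hdu : u ∣ Nat.card M) (hdv : v ∣ Nat.card M) (hdw : w ∣ Nat.card M) :
    ∃ x ∈ M, ∃ y ∈ M, (orderOf x = u ∨ orderOf x = v ∨ orderOf x = w) ∧
      (orderOf y = u ∨ orderOf y = v ∨ orderOf y = w) ∧ orderOf x ≠ orderOf y ∧ Commute x y := by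
  obtain ⟨H, hHM, hH, hHi⟩ := Hall.exists_isPiHallOf ({u, v, w} : Set ℕ) M
  have hdvd : ∀ t : ℕ, t.Prime → t ∈ ({u, v, w} : Set ℕ) → t ∣ Nat.card M → t ∣ Nat.card H := by
    intro t ht htm htd
    rw [← PSolvable.card_mul_relIndex hHM] at htd
    exact (ht.dvd_mul.mp htd).resolve_right fun h => hHi t ht htm h
  have hHne : H ≠ ⊥ := by
    intro e
    have := hdvd u hu (by simp) hdu
    rw [e, card_bot] at this
    exact hu.not_dvd_one this
  obtain ⟨i, hi, hid, hcore⟩ := exists_coreIn_ne_bot hHne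
  have hiM : i ∈ ({u, v, w} : Set ℕ) := hH i hi hid
  haveI := Fact.mk hi
  obtain ⟨j, k, hj, hk, hjm, hkm, hij, hik, hjk, hjd, hkd⟩ : ∃ j k : ℕ, j.Prime ∧ k.Prime ∧
      j ∈ ({u, v, w} : Set ℕ) ∧ k ∈ ({u, v, w} : Set ℕ) ∧ i ≠ j ∧ i ≠ k ∧ j ≠ k ∧
      j ∣ Nat.card M ∧ k ∣ Nat.card M := by
    rcases hiM with rfl | rfl | rfl
    · exact ⟨v, w, hv, hw, by simp, by simp, huv, huw, hvw, hdv, hdw⟩
    · exact ⟨u, w, hu, hw, by simp, by simp, huv.symm, hvw, huw, hdu, hdw⟩
    · exact ⟨u, v, hu, hv, by simp, by simp, huw.symm, hvw.symm, huv, hdu, hdv⟩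
  -- a Hall `{j, k}`-subgroup of `H`
  obtain ⟨J, hJH, hJ, hJi⟩ := Hall.exists_isPiHallOf ({j, k} : Set ℕ) H
  have hdvdJ : ∀ t : ℕ, t.Prime → t ∈ ({j, k} : Set ℕ) → t ∣ Nat.card H → t ∣ Nat.card J := by
    intro t ht htm htd
    rw [← PSolvable.card_mul_relIndex hJH] at htd
    exact (ht.dvd_mul.mp htd).resolve_right fun h => hJi t ht htm h
  have hJk := hdvdJ k hk (by simp) (hdvd k hk hkm hkd)
  have hJj := hdvdJ j hj (by simp) (hdvd j hj hjm hjd)
  have hJne : J ≠ ⊥ := by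
    intro e
    rw [e, card_bot] at hJk
    exact hk.not_dvd_one hJk
  obtain ⟨l, hl, hld, hW⟩ := exists_coreIn_ne_bot hJne
  -- relabel so that `l = j`
  suffices main : ∀ j k : ℕ, j.Prime → k.Prime → j ∈ ({u, v, w} : Set ℕ) →
      k ∈ ({u, v, w} : Set ℕ) → i ≠ j → i ≠ k → j ≠ k → k ∣ Nat.card J → coreIn j J ≠ ⊥ →
      ∃ x ∈ M, ∃ y ∈ M, (orderOf x = u ∨ orderOf x = v ∨ orderOf x = w) ∧
        (orderOf y = u ∨ orderOf y = v ∨ orderOf y = w) ∧ orderOf x ≠ orderOf y ∧ Commute x y by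
    rcases hJ l hl hld with rfl | rfl
    · exact main l k hl hk hjm hkm hij hik hjk hJk hW
    · exact main l j hl hj hkm hjm hik hij hjk.symm hJj hW
  clear hjk hij hik hjd hkd hJk hJj hj hk hjm hkm hJi hdvdJ hJ hW hld
  intro j k hj hk hjm hkm hij hik hjk hJk hW
  haveI := Fact.mk hj
  haveI := Fact.mk hk
  obtain ⟨d, hd⟩ := exists_prime_orderOf_dvd_card' (G := J) k hJk
  have hdo : orderOf (d : G) = k := by rw [Subgroup.orderOf_coe, hd]
  have hdH : (d : G) ∈ H := hJH d.2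
  have hWH : coreIn j J ≤ H := coreIn_le.trans hJH
  by_cases hfix : coreIn j J ⊓ centralizer {(d : G)} = ⊥
  swap
  · obtain ⟨x, hx, hxo, hxd⟩ := exists_orderOf_fix coreIn_isPGroup hfix
    exact ⟨x, hHM (hWH hx), d, hHM hdH, hxo ▸ hjm, hdo ▸ hkm, by rw [hxo, hdo]; exact hjk,
      hxd.symm⟩
  by_cases hc : coreIn j J ≤ centralizer (coreIn i H : Set G)
  · obtain ⟨x, hx, hxo⟩ := exists_orderOf coreIn_isPGroup hW
    obtain ⟨n, hn, hno⟩ := exists_orderOf coreIn_isPGroup hcore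
    exact ⟨n, hHM (coreIn_le hn), x, hHM (hWH hx), hno ▸ hiM, hxo ▸ hjm,
      by rw [hxo, hno]; exact hij, mem_centralizer_iff.mp (hc hx) n hn⟩
  have hcop : ∀ {t : ℕ}, t.Prime → t ≠ i → t.Coprime (Nat.card (coreIn i H)) := by
    intro t ht hti
    obtain ⟨m, hm⟩ := IsPGroup.iff_card.mp (coreIn_isPGroup (p := i) (K := H))
    rw [hm]
    exact ((Nat.coprime_primes ht hi).mpr hti).pow_right _
  have hfixN := fix_ne_bot (le_normalizer_coreIn d.2) (hWH.trans le_normalizer_coreIn)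
    (le_normalizer_coreIn hdH) (by
      obtain ⟨m, hm⟩ := IsPGroup.iff_card.mp (coreIn_isPGroup (p := j) (K := J))
      rw [hm]
      exact (hcop hj hij.symm).pow_left _)
    (hdo ▸ hcop hk hik.symm) (fpf_of_prime hk hdo hfix) hc
  obtain ⟨n, hn, hno, hnd⟩ := exists_orderOf_fix coreIn_isPGroup hfixN
  exact ⟨n, hHM (coreIn_le hn), d, hHM hdH, hno ▸ hiM, hdo ▸ hkm, by rw [hno, hdo]; exact hik,
    hnd.symm⟩

/-- Pairwise joined primes, no three of them joined by one element. -/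
structure Spec (G : Type u) [Group G] (σ : Finset ℕ) : Prop where
  prime : ∀ u ∈ σ, u.Prime
  pi : Hall.IsPiNumber (↑σ : Set ℕ) (Nat.card G)
  pairs : ∀ u ∈ σ, ∀ v ∈ σ, u ≠ v → ∃ x y : G, orderOf x = u ∧ orderOf y = v ∧ Commute x y
  triple : ∀ x y z : G, orderOf x ∈ σ → orderOf y ∈ σ → orderOf z ∈ σ → orderOf x ≠ orderOf y →
    orderOf y ≠ orderOf z → orderOf x ≠ orderOf z → Commute x y → Commute y z → Commute x z → False

namespace Spec

variable {σ : Finset ℕ}

theorem three (hS : Spec G σ) {u v w : ℕ} (hu : u ∈ σ) (hv : v ∈ σ) (hw : w ∈ σ) (huv : u ≠ v)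
    (hvw : v ≠ w) (huw : u ≠ w) {x y z : G} (hx : orderOf x = u) (hy : orderOf y = v)
    (hz : orderOf z = w) (hxy : Commute x y) (hyz : Commute y z) (hxz : Commute x z) : False :=
  hS.triple x y z (by rwa [hx]) (by rwa [hy]) (by rwa [hz]) (by rw [hx, hy]; exact huv)
    (by rw [hy, hz]; exact hvw) (by rw [hx, hz]; exact huw) hxy hyz hxz

/-- No element of prime order is centralised by elements of three further orders. -/
theorem no_three (hS : Spec G σ) [Group.IsSolvable G] {t u v w : ℕ} (ht : t ∈ σ) (hu : u ∈ σ)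
    (hv : v ∈ σ) (hw : w ∈ σ) (htu : t ≠ u) (htv : t ≠ v) (htw : t ≠ w) (huv : u ≠ v) (huw : u ≠ w)
    (hvw : v ≠ w) {g a b c : G} (hg : orderOf g = t) (ha : orderOf a = u) (hb : orderOf b = v)
    (hc : orderOf c = w) (hga : Commute g a) (hgb : Commute g b) (hgc : Commute g c) : False := by
  have hd : ∀ {y : G}, Commute g y → orderOf y ∣ Nat.card (centralizer ({g} : Set G)) := fun h =>
    Subgroup.orderOf_dvd_natCard _ (commute_iff_mem.mp h)
  obtain ⟨x, hx, y, hy, hxo, hyo, hne, hxy⟩ := exists_commuting (hS.prime u hu) (hS.prime v hv)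
    (hS.prime w hw) huv huw hvw (M := centralizer ({g} : Set G)) (ha ▸ hd hga) (hb ▸ hd hgb)
    (hc ▸ hd hgc)
  have hmem : ∀ {y : G}, (orderOf y = u ∨ orderOf y = v ∨ orderOf y = w) →
      orderOf y ∈ σ ∧ t ≠ orderOf y := by
    intro y h
    rcases h with h | h | h <;> rw [h] <;> exact ⟨by assumption, by assumption⟩
  exact hS.three ht (hmem hxo).1 (hmem hyo).1 (hmem hxo).2 hne (hmem hyo).2 hg rfl rfl
    (commute_iff_mem.mpr hx) hxy (commute_iff_mem.mpr hy)

variable [Group.IsSolvable G] {π : Set ℕ} {H : Subgroup G}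

/-- A `π`-subgroup has a conjugate in a given Hall `π`-subgroup. -/
theorem exists_conj_mem (hH : Cfsg.IsPiHall π H) {U : Subgroup G}
    (hU : Hall.IsPiNumber π (Nat.card U)) : ∃ g : G, ∀ x ∈ U, g⁻¹ * x * g ∈ H := by
  obtain ⟨g, hg⟩ := (Hall.hallProperties_of_isSolvable π).exists_le_conj hH hU
  refine ⟨g, fun x hx => ?_⟩
  have := hg hx
  rw [mem_pointwise_smul_iff_inv_smul_mem, ← map_inv, MulAut.smul_def, MulAut.conj_apply,
    inv_inv] at this
  exact this

theorem orderOf_conj' (g x : G) : orderOf (g⁻¹ * x * g) = orderOf x := by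
  have h := orderOf_injective ((MulAut.conj g⁻¹).toMonoidHom) (MulAut.conj g⁻¹).injective x
  simpa using h

theorem commute_conj' {g x y : G} (h : Commute x y) : Commute (g⁻¹ * x * g) (g⁻¹ * y * g) := by
  show _ * _ = _ * _
  calc g⁻¹ * x * g * (g⁻¹ * y * g) = g⁻¹ * (x * y) * g := by group
    _ = g⁻¹ * y * g * (g⁻¹ * x * g) := by rw [h.eq]; group

/-- A commuting pair of orders in `π` has a conjugate inside a Hall `π`-subgroup. -/
theorem exists_commuting_mem (hS : Spec G σ) {u v : ℕ} (hu : u ∈ σ) (hv : v ∈ σ) (huv : u ≠ v)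
    (huπ : u ∈ π) (hvπ : v ∈ π) (hH : Cfsg.IsPiHall π H) :
    ∃ x ∈ H, ∃ y ∈ H, orderOf x = u ∧ orderOf y = v ∧ Commute x y := by
  obtain ⟨x, y, hx, hy, hxy⟩ := hS.pairs u hu v hv huv
  have hcard : Nat.card (zpowers x ⊔ zpowers y : Subgroup G) ∣ u * v := by
    rw [← hx, ← hy, ← Nat.card_zpowers, ← Nat.card_zpowers]
    refine Hall.card_sup_dvd_of_le_normalizer (zpowers_le.mpr ?_)
    exact mem_normalizer_iff.mpr fun z => by
      constructor
      · intro hz
        obtain ⟨k, rfl⟩ := mem_zpowers_iff.mp hz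
        rw [(hxy.zpow_right k).eq, mul_inv_cancel_right]
        exact zpow_mem (mem_zpowers y) k
      · intro hz
        obtain ⟨k, hk⟩ := mem_zpowers_iff.mp hz
        have : z = y ^ k := by
          have h2 : z = x⁻¹ * (x * z * x⁻¹) * x := by group
          rw [h2, ← hk, mul_assoc, ← (hxy.zpow_right k).eq, inv_mul_cancel_left]
        rw [this]
        exact zpow_mem (mem_zpowers y) k
  obtain ⟨g, hg⟩ := exists_conj_mem hH (U := zpowers x ⊔ zpowers y)
    (((Hall.isPiNumber_pow_prime (hS.prime u hu) huπ 1).mul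
      (Hall.isPiNumber_pow_prime (hS.prime v hv) hvπ 1)).of_dvd (by simpa using hcard))
  exact ⟨_, hg x (mem_sup_left (mem_zpowers x)), _, hg y (mem_sup_right (mem_zpowers y)),
    by rw [orderOf_conj', hx], by rw [orderOf_conj', hy], commute_conj' hxy⟩

/-- An element of order in `π` has, with an element commuting with it, a conjugate whose first
component lies in a Hall `π`-subgroup. -/
theorem exists_commuting_left (hS : Spec G σ) {u v : ℕ} (hu : u ∈ σ) (hv : v ∈ σ) (huv : u ≠ v)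
    (huπ : u ∈ π) (hH : Cfsg.IsPiHall π H) :
    ∃ x ∈ H, ∃ y, orderOf x = u ∧ orderOf y = v ∧ Commute x y := by
  obtain ⟨x, y, hx, hy, hxy⟩ := hS.pairs u hu v hv huv
  obtain ⟨g, hg⟩ := exists_conj_mem hH (U := zpowers x)
    (by rw [Nat.card_zpowers, hx, ← pow_one u]; exact Hall.isPiNumber_pow_prime (hS.prime u hu) huπ 1)
  exact ⟨_, hg x (mem_zpowers x), g⁻¹ * y * g, by rw [orderOf_conj', hx], by rw [orderOf_conj', hy],
    commute_conj' hxy⟩

/-- Every prime of `σ` is the prime of a pair. -/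
theorem exists_pair (hS : Spec G σ) {t u v w : ℕ} (ht : t ∈ σ) (hu : u ∈ σ) (hv : v ∈ σ)
    (hw : w ∈ σ) (htu : t ≠ u) (htv : t ≠ v) (htw : t ≠ w) (huv : u ≠ v) (huw : u ≠ w)
    (hvw : v ≠ w) (htπ : t ∈ π) (hH : Cfsg.IsPiHall π H) :
    ∃ a ∈ H, ∃ b ∈ H, IsPair t a b := by
  haveI := Fact.mk (hS.prime t ht)
  obtain ⟨T⟩ := (inferInstance : Nonempty (Sylow t G))
  rcases exists_pair_or_unique T.2 with ⟨a, b, ha, hb, hab⟩ | huniq
  · obtain ⟨g, hg⟩ := exists_conj_mem hH (U := (T : Subgroup G)) (by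
      obtain ⟨k, hk⟩ := IsPGroup.iff_card.mp T.2
      rw [hk]
      exact Hall.isPiNumber_pow_prime (hS.prime t ht) htπ k)
    refine ⟨_, hg a ha, _, hg b hb, ?_⟩
    have := hab.map (MulAut.conj g⁻¹).toMonoidHom (MulAut.conj g⁻¹).injective
    simpa using this
  exfalso
  -- all elements of order `t` are conjugate up to powers
  have key : ∀ {l : ℕ}, l ∈ σ → t ≠ l → ∀ z ∈ (T : Subgroup G), orderOf z = t →
      ∃ y : G, orderOf y = l ∧ Commute z y := by
    intro l hl htl z hz hzo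
    obtain ⟨x, y, hx, hy, hxy⟩ := hS.pairs t ht l hl htl
    have hT : Cfsg.IsPiHall ({t} : Set ℕ) (T : Subgroup G) := by
      refine (Hall.isPiHall_iff _).mpr ⟨?_, fun l hl hd => ?_⟩
      · obtain ⟨k, hk⟩ := IsPGroup.iff_card.mp T.2
        rw [hk]
        exact Hall.isPiNumber_pow_prime (π := ({t} : Set ℕ)) (hS.prime t ht) rfl k
      · intro (e : l = t)
        exact T.not_dvd_index (e ▸ hd)
    obtain ⟨g, hg⟩ := exists_conj_mem hT (U := zpowers x) (by
      rw [Nat.card_zpowers, hx]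
      simpa using Hall.isPiNumber_pow_prime (π := ({t} : Set ℕ)) (hS.prime t ht) rfl 1)
    obtain ⟨k, hk⟩ := mem_zpowers_iff.mp (huniq z hz _ (hg x (mem_zpowers x)) hzo
      (by rw [orderOf_conj', hx]))
    exact ⟨g⁻¹ * y * g, by rw [orderOf_conj', hy], hk ▸ (commute_conj' hxy).zpow_left k⟩
  obtain ⟨x, y, hx, -, -⟩ := hS.pairs t ht u hu htu
  have hd : t ∣ Nat.card (T : Subgroup G) :=
    T.dvd_card_of_dvd_card (hx ▸ orderOf_dvd_natCard x)
  obtain ⟨z, hz⟩ := exists_prime_orderOf_dvd_card' (G := (T : Subgroup G)) t hd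
  have hzo : orderOf (z : G) = t := by rw [Subgroup.orderOf_coe, hz]
  obtain ⟨a, ha, hza⟩ := key hu htu z z.2 hzo
  obtain ⟨b, hb, hzb⟩ := key hv htv z z.2 hzo
  obtain ⟨c, hc, hzc⟩ := key hw htw z z.2 hzo
  exact hS.no_three ht hu hv hw htu htv htw huv huw hvw hzo ha hb hc hza hzb hzc

end Spec

end Cfsg.Agent.Lib.PairSpectrum
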