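import Cfsg.Agent.Lib.PairSpectrum.Spec

/-!
# Two primes in the Fitting subgroup
-/

set_option autoImplicit false
set_option linter.style.haveILetI false

namespace Cfsg.Agent.Lib.PairSpectrum

open Subgroup
open Cfsg.Agent.Lib

universe u

variable {G : Type u} [Group G] [Finite G]

theorem coprime_card_of_isPGroup {p t : ℕ} [hp : Fact p.Prime] {P : Subgroup G} (hP : IsPGroup p P)
    (ht : t.Prime) (hne : t ≠ p) : t.Coprime (Nat.card P) := by
  obtain ⟨k, hk⟩ := IsPGroup.iff_card.mp hP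
  rw [hk]
  exact ((Nat.coprime_primes ht hp.out).mpr hne).pow_right _

theorem coprime_card_card {p t : ℕ} [Fact p.Prime] [ht : Fact t.Prime] {T P : Subgroup G}
    (hT : IsPGroup t T) (hP : IsPGroup p P) (hne : t ≠ p) :
    (Nat.card T).Coprime (Nat.card P) := by
  obtain ⟨k, hk⟩ := IsPGroup.iff_card.mp hT
  rw [hk]
  exact (coprime_card_of_isPGroup hP ht.out hne).pow_left _

omit [Finite G] in
theorem top_le_normalizer_iff {P : Subgroup G} :
    (∀ g : G, g ∈ normalizer (P : Set G)) ↔ ⊤ ≤ normalizer (P : Set G) :=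
  ⟨fun h g _ => h g, fun h g => h (mem_top g)⟩

/-- Commuting elements of two normal subgroups meeting trivially. -/
theorem commute_of_inf_eq_bot {K P N : Subgroup G} (hPK : P ≤ K) (hNK : N ≤ K)
    (hP : K ≤ normalizer (P : Set G)) (hN : K ≤ normalizer (N : Set G)) (h : P ⊓ N = ⊥)
    {x y : G} (hx : x ∈ P) (hy : y ∈ N) : Commute x y := by
  have h1 : x * y * x⁻¹ * y⁻¹ ∈ P ⊓ N := by
    constructor
    · rw [show x * y * x⁻¹ * y⁻¹ = x * (y * x⁻¹ * y⁻¹) by group]
      exact P.mul_mem hx ((mem_normalizer_iff.mp (hP (hNK hy)) _).mp (P.inv_mem hx))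
    · exact N.mul_mem ((mem_normalizer_iff.mp (hN (hPK hx)) _).mp hy) (N.inv_mem hy)
  rw [h, mem_bot, mul_inv_eq_one, mul_inv_eq_iff_eq_mul] at h1
  exact h1

theorem inf_eq_bot_of_ne {p q : ℕ} [Fact p.Prime] [Fact q.Prime] (hpq : p ≠ q) {P N : Subgroup G}
    (hP : IsPGroup p P) (hN : IsPGroup q N) : P ⊓ N = ⊥ :=
  disjoint_iff.mp (IsPGroup.disjoint_of_ne p q hpq P N hP hN)

variable {σ : Finset ℕ} [Group.IsSolvable G]

/-- The primes of the centraliser of `N` in a complementary Hall subgroup. -/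
theorem false_of_centralizes (hS : Spec G σ) {p q r s : ℕ} [Fact p.Prime] [Fact q.Prime]
    [Fact r.Prime] [Fact s.Prime] (hp : p ∈ σ) (hq : q ∈ σ) (hr : r ∈ σ) (hs : s ∈ σ)
    (hpq : p ≠ q) (hpr : p ≠ r) (hps : p ≠ s) (hqr : q ≠ r) (hqs : q ≠ s) (hrs : r ≠ s)
    {P N H : Subgroup G} (hP : IsPGroup p P) (hN : IsPGroup q N) (hP1 : P ≠ ⊥) (hN1 : N ≠ ⊥)
    (hPn : ⊤ ≤ normalizer (P : Set G)) (hNn : ⊤ ≤ normalizer (N : Set G))
    (hH : Cfsg.IsPiHall ({r, s} : Set ℕ) H)
    (hW : coreIn r (H ⊓ centralizer (N : Set G)) ≠ ⊥) : False := by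
  have hsp : s.Prime := Fact.out
  have hrp : r.Prime := Fact.out
  set X := H ⊓ centralizer (N : Set G) with hX
  set W := coreIn r X with hWdef
  have hXH : H ≤ normalizer (X : Set G) := by
    refine Coprime.le_normalizer_of_conj_mem fun a ha x hx =>
      ⟨H.mul_mem (H.mul_mem ha hx.1) (H.inv_mem ha), mem_centralizer_iff.mpr fun n hn => ?_⟩
    have h1 : a⁻¹ * n * a ∈ N := by
      simpa using (mem_normalizer_iff.mp (hNn (mem_top a⁻¹)) n).mp hn
    have h2 := mem_centralizer_iff.mp hx.2 _ h1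
    calc n * (a * x * a⁻¹) = a * (a⁻¹ * n * a * x) * a⁻¹ := by group
      _ = a * x * a⁻¹ * n := by rw [h2]; group
  have hWC : ∀ x ∈ W, ∀ n ∈ N, Commute x n := fun x hx n hn =>
    (mem_centralizer_iff.mp (coreIn_le hx).2 n hn).symm
  have hWp : IsPGroup r W := coreIn_isPGroup
  have hcommPN : ∀ x ∈ P, ∀ y ∈ N, Commute x y := fun x hx y hy =>
    commute_of_inf_eq_bot (K := ⊤) le_top le_top hPn hNn (inf_eq_bot_of_ne hpq hP hN) hx hy
  obtain ⟨n₀, hn₀, hn₀o⟩ := exists_orderOf hN hN1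
  -- no element of order `r` in `W` has a fixed point on `P`
  have hfixW : ∀ x ∈ W, orderOf x = r → P ⊓ centralizer {x} = ⊥ := by
    intro x hx hxo
    by_contra hne
    obtain ⟨v, hv, hvo, hxv⟩ := exists_orderOf_fix hP hne
    exact hS.three hp hq hr hpq hqr hpr hvo hn₀o hxo (hcommPN v hv n₀ hn₀)
      (hWC x hx n₀ hn₀).symm hxv.symm
  rcases exists_pair_or_unique hWp with ⟨a, b, ha, hb, hab⟩ | huniq
  · obtain ⟨x, hx, hx1, hfix⟩ := hab.exists_fix hrp (coprime_card_of_isPGroup hP hrp hpr.symm)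
      (hPn (mem_top a)) (hPn (mem_top b)) hP1
    have hxW : x ∈ W := (closure_le W).mpr (by rintro y (rfl | rfl) <;> assumption) hx
    exact hfix (hfixW x hxW (hab.orderOf_eq hrp hx hx1))
  obtain ⟨a, ha, hao⟩ := exists_orderOf hWp hW
  -- the subgroup generated by `a` is normal in `H`
  have hAn : ∀ h ∈ H, h ∈ normalizer ((zpowers a : Subgroup G) : Set G) := by
    intro h hh
    refine (Coprime.le_normalizer_of_conj_mem (A := zpowers h) (fun g hg z hz => ?_))
      (mem_zpowers h)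
    have hgH : g ∈ H := zpowers_le.mpr hh hg
    have hgW : g ∈ normalizer (W : Set G) := by
      refine Coprime.le_normalizer_of_conj_mem ?_ hgH
      intro c hc _ hy
      obtain ⟨y, hy, rfl⟩ := hy
      have hchar : (Cfsg.pCore r ↥X).Characteristic := PSolvable.pCore_characteristic
      let φ : MulAut X := Coprime.conjAut hXH ⟨c, hc⟩
      refine ⟨φ y, ?_, rfl⟩
      have := (Subgroup.characteristic_iff_map_eq.mp hchar) φ
      rw [← this]
      exact mem_map_of_mem _ hy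
    have hmem : g * a * g⁻¹ ∈ zpowers a := by
      refine huniq _ ((mem_normalizer_iff.mp hgW a).mp ha) a ha ?_ hao
      have := orderOf_injective (MulAut.conj g).toMonoidHom (MulAut.conj g).injective a
      simpa [hao] using this
    obtain ⟨k, rfl⟩ := mem_zpowers_iff.mp hz
    rw [← conj_zpow]
    exact zpow_mem hmem k
  have haH : a ∈ H := (coreIn_le ha).1
  obtain ⟨f₁, hf₁, f₂, hf₂, hf⟩ := hS.exists_pair hs hp hq hr hps.symm hqs.symm hrs.symm hpq hpr hqr
    (by simp : s ∈ ({r, s} : Set ℕ)) hH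
  have hFH : closure ({f₁, f₂} : Set G) ≤ H :=
    (closure_le H).mpr (by rintro y (rfl | rfl) <;> assumption)
  -- every element of the pair is fixed-point-free on `N`
  obtain ⟨f, hfm, hf1, hfix⟩ := hf.exists_fix hsp (coprime_card_of_isPGroup hN hsp hqs.symm)
    (hNn (mem_top f₁)) (hNn (mem_top f₂)) hN1
  have hfo := hf.orderOf_eq hsp hfm hf1
  obtain ⟨n, hn, hno, hfn⟩ := exists_orderOf_fix hN hfix
  by_cases hfa : Commute f a
  · exact hS.three hq hr hs hqr hrs hqs hno hao hfo (hWC a ha n hn).symm hfa.symm hfn.symm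
  have hAfix : zpowers a ⊓ centralizer {f} = ⊥ := by
    rw [eq_bot_iff]
    intro z hz
    by_contra hz1
    rw [mem_bot] at hz1
    obtain ⟨x, hx, hxo, hfx⟩ := exists_orderOf_fix (p := r) (H := zpowers a)
      (IsPGroup.iff_card.mpr ⟨1, by rw [Nat.card_zpowers, hao, pow_one]⟩)
      (fun e => hz1 (mem_bot.mp (e ▸ hz)))
    obtain ⟨k, hk⟩ := mem_zpowers_iff.mp (huniq a ha x (zpowers_le.mpr ha hx) hao hxo)
    exact hfa (hk ▸ hfx.zpow_right k)
  have haP : ¬ zpowers a ≤ centralizer (P : Set G) := by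
    intro h
    obtain ⟨v, hv, hvo⟩ := exists_orderOf hP hP1
    have hmem : v ∈ P ⊓ centralizer {a} :=
      ⟨hv, commute_iff_mem.mp (mem_centralizer_iff.mp (h (mem_zpowers a)) v hv).symm⟩
    rw [hfixW a ha hao, mem_bot] at hmem
    rw [hmem, orderOf_one] at hvo
    exact (Fact.out : p.Prime).ne_one hvo.symm
  have hfixP := fix_ne_bot (hAn f (hFH hfm)) (zpowers_le.mpr (hPn (mem_top a))) (hPn (mem_top f))
    (by rw [Nat.card_zpowers, hao]; exact coprime_card_of_isPGroup hP hrp hpr.symm)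
    (hfo ▸ coprime_card_of_isPGroup hP hsp hps.symm) (fpf_of_prime hsp hfo hAfix) haP
  obtain ⟨v, hv, hvo, hfv⟩ := exists_orderOf_fix hP hfixP
  exact hS.three hp hq hs hpq hqs hps hvo hno hfo (hcommPN v hv n hn) hfn.symm hfv.symm

/-- In a `{r, s}`-group, an element centralising `O_s` commutes with one centralising `O_r`. -/
theorem commute_of_cross {r s : ℕ} [Fact r.Prime] [Fact s.Prime] (hrs : r ≠ s) {H : Subgroup G}
    (hH : ∀ u : ℕ, u.Prime → u ∣ Nat.card H → u = r ∨ u = s) {e f : G} (heH : e ∈ H) (hfH : f ∈ H)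
    (he : orderOf e = r) (hf : orderOf f = s) (hes : ∀ x ∈ coreIn s H, Commute e x)
    (hfr : ∀ x ∈ coreIn r H, Commute f x) : Commute e f := by
  set R := coreIn r H with hR
  set S := coreIn s H with hSdef
  have hcomm : ∀ x ∈ R, ∀ y ∈ S, Commute x y := fun x hx y hy =>
    commute_of_inf_eq_bot coreIn_le coreIn_le le_normalizer_coreIn le_normalizer_coreIn
      (inf_eq_bot_of_ne hrs coreIn_isPGroup coreIn_isPGroup) hx hy
  set c := f⁻¹ * (e * f * e⁻¹) with hc
  have hcH : c ∈ H := H.mul_mem (H.inv_mem hfH) (H.mul_mem (H.mul_mem heH hfH) (H.inv_mem heH))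
  have hcR : ∀ x ∈ R, Commute c x := by
    intro x hx
    have h1 : e⁻¹ * x * e ∈ R := by
      simpa using (mem_normalizer_iff.mp (le_normalizer_coreIn (H.inv_mem heH)) x).mp hx
    show c * x = x * c
    calc c * x = f⁻¹ * (e * (f * (e⁻¹ * x * e)) * e⁻¹) := by rw [hc]; group
      _ = f⁻¹ * x * (e * f * e⁻¹) := by rw [(hfr _ h1).eq]; group
      _ = x * c := by rw [((hfr x hx).inv_left).eq, hc]; group
  have hcS : ∀ y ∈ S, Commute c y := by
    intro y hy
    have h1 : e⁻¹ * y * e = y := by rw [mul_assoc, ← (hes y hy).eq, inv_mul_cancel_left]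
    have h2 : f * y * f⁻¹ ∈ S := (mem_normalizer_iff.mp (le_normalizer_coreIn hfH) y).mp hy
    show c * y = y * c
    calc c * y = f⁻¹ * (e * (f * (e⁻¹ * y * e)) * e⁻¹) := by rw [hc]; group
      _ = f⁻¹ * (e * (f * y * f⁻¹)) * (f * e⁻¹) := by rw [h1]; group
      _ = y * c := by rw [(hes _ h2).eq, hc]; group
  have hle : ∀ u : ℕ, u.Prime → coreIn u H ≤ R ⊔ S := by
    intro u hu
    haveI := Fact.mk hu
    rcases eq_or_ne (coreIn u H) ⊥ with h | h
    · rw [h]; exact bot_le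
    · obtain ⟨x, hx, hxo⟩ := exists_orderOf coreIn_isPGroup h
      rcases hH u hu (hxo ▸ H.orderOf_dvd_natCard (coreIn_le hx)) with rfl | rfl
      · exact le_sup_left
      · exact le_sup_right
  have hmem : c ∈ R ⊔ S := centralizer_cores_le (sup_le coreIn_le coreIn_le) hle
    ⟨hcH, by
      refine le_centralizer_iff.mp (sup_le ?_ ?_) (mem_zpowers c)
      · exact fun x hx => mem_centralizer_iff.mpr fun z hz => by
          obtain ⟨k, rfl⟩ := mem_zpowers_iff.mp hz
          exact ((hcR x hx).zpow_left k).eq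
      · exact fun x hx => mem_centralizer_iff.mpr fun z hz => by
          obtain ⟨k, rfl⟩ := mem_zpowers_iff.mp hz
          exact ((hcS x hx).zpow_left k).eq⟩
  rw [← SetLike.mem_coe, coe_mul_of_left_le_normalizer_right R S
    (coreIn_le.trans le_normalizer_coreIn)] at hmem
  obtain ⟨x, hx, y, hy, hxy⟩ := hmem
  -- the `r`-part is trivial
  have hx1 : x = 1 := by
    have hfx : Commute f x := hfr x hx
    have hyT : f * y ∈ zpowers f ⊔ S := mul_mem (mem_sup_left (mem_zpowers f)) (mem_sup_right hy)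
    have heq : f * y * x = e * f * e⁻¹ := by
      rw [mul_assoc, ← (hcomm x hx y hy).eq, show x * y = c from hxy, hc, mul_inv_cancel_left]
    have hpow : (f * y * x) ^ s = 1 := by
      rw [heq, conj_pow, ← hf, pow_orderOf_eq_one, mul_one, mul_inv_cancel]
    have hc2 : Commute (f * y) x := hfx.mul_left (hcomm x hx y hy).symm
    rw [hc2.mul_pow] at hpow
    have hxs' : x ^ s ∈ (zpowers f ⊔ S : Subgroup G) := by
      rw [← inv_eq_of_mul_eq_one_right hpow]
      exact Subgroup.inv_mem _ (Subgroup.pow_mem _ hyT s)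
    have hxs : x ^ s ∈ R ⊓ (zpowers f ⊔ S) := ⟨R.pow_mem hx s, hxs'⟩
    have hTp : IsPGroup s (zpowers f ⊔ S : Subgroup G) :=
      IsPGroup.to_sup_of_normal_right' (IsPGroup.iff_card.mpr ⟨1, by
        rw [Nat.card_zpowers, hf, pow_one]⟩) coreIn_isPGroup
        (zpowers_le.mpr (le_normalizer_coreIn hfH))
    rw [inf_eq_bot_of_ne hrs coreIn_isPGroup hTp, mem_bot] at hxs
    obtain ⟨k, hk⟩ := IsPGroup.iff_orderOf.mp coreIn_isPGroup (⟨x, hx⟩ : R)
    rw [Subgroup.orderOf_mk] at hk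
    exact orderOf_eq_one_iff.mp (Nat.eq_one_of_dvd_coprimes
      (((Nat.coprime_primes (Fact.out : r.Prime) (Fact.out : s.Prime)).mpr hrs).pow_left k)
      hk.dvd (orderOf_dvd_of_pow_eq_one hxs))
  subst hx1
  have hxy' : y = f⁻¹ * (e * f * e⁻¹) := by simpa [hc] using hxy
  -- the `s`-part is trivial
  have hye : Commute e y := hes y hy
  have hconj : f⁻¹ * e * f = y * e := by rw [hxy']; group
  have hpow : (y * e) ^ r = 1 := by
    rw [← hconj]
    have h := conj_pow (a := f⁻¹) (b := e) (i := r)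
    rw [inv_inv] at h
    rw [h, ← he, pow_orderOf_eq_one, mul_one, inv_mul_cancel]
  rw [hye.symm.mul_pow, show e ^ r = 1 from he ▸ pow_orderOf_eq_one e, mul_one] at hpow
  obtain ⟨k, hk⟩ := IsPGroup.iff_orderOf.mp coreIn_isPGroup (⟨y, hy⟩ : S)
  rw [Subgroup.orderOf_mk] at hk
  have hy1 : y = 1 := orderOf_eq_one_iff.mp (Nat.eq_one_of_dvd_coprimes
    (((Nat.coprime_primes (Fact.out : s.Prime) (Fact.out : r.Prime)).mpr hrs.symm).pow_left k)
    hk.dvd (orderOf_dvd_of_pow_eq_one hpow))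
  rw [hy1, one_mul] at hconj
  exact (show f * e = e * f by
    calc f * e = f * (f⁻¹ * e * f) := by rw [hconj]
      _ = e * f := by group).symm

/-- The Hall subgroup acts faithfully on `P` and on `N`. -/
theorem false_of_faithful (hS : Spec G σ) {p q r s : ℕ} [Fact p.Prime] [Fact q.Prime]
    [Fact r.Prime] [Fact s.Prime] (hp : p ∈ σ) (hq : q ∈ σ) (hr : r ∈ σ) (hs : s ∈ σ)
    (hpq : p ≠ q) (hpr : p ≠ r) (hps : p ≠ s) (hqr : q ≠ r) (hqs : q ≠ s) (hrs : r ≠ s)
    (hs2 : s ≠ 2)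
    {P N H : Subgroup G} (hP : IsPGroup p P) (hN : IsPGroup q N) (hP1 : P ≠ ⊥) (hN1 : N ≠ ⊥)
    (hPn : ⊤ ≤ normalizer (P : Set G)) (hNn : ⊤ ≤ normalizer (N : Set G))
    (hH : Cfsg.IsPiHall ({r, s} : Set ℕ) H) (hHP : H ⊓ centralizer (P : Set G) = ⊥)
    (hHN : H ⊓ centralizer (N : Set G) = ⊥) : False := by
  have hrp : r.Prime := Fact.out
  have hsp : s.Prime := Fact.out
  have hcommPN : ∀ x ∈ P, ∀ y ∈ N, Commute x y := fun x hx y hy =>
    commute_of_inf_eq_bot (K := ⊤) le_top le_top hPn hNn (inf_eq_bot_of_ne hpq hP hN) hx hy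
  -- no element of order `r` or `s` has fixed points on both
  have hboth : ∀ {t : ℕ}, t ∈ σ → p ≠ t → q ≠ t → ∀ x : G, orderOf x = t →
      P ⊓ centralizer {x} = ⊥ ∨ N ⊓ centralizer {x} = ⊥ := by
    intro t ht hpt hqt x hx
    by_contra hc
    push Not at hc
    obtain ⟨v, hv, hvo, hxv⟩ := exists_orderOf_fix hP hc.1
    obtain ⟨n, hn, hno, hxn⟩ := exists_orderOf_fix hN hc.2
    exact hS.three hp hq ht hpq hqt hpt hvo hno hx (hcommPN v hv n hn) hxn.symm hxv.symm
  obtain ⟨e₁, he₁, e₂, he₂, he⟩ := hS.exists_pair hr hp hq hs hpr.symm hqr.symm hrs hpq hps hqs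
    (by simp : r ∈ ({r, s} : Set ℕ)) hH
  have hEH : closure ({e₁, e₂} : Set G) ≤ H :=
    (closure_le H).mpr (by rintro y (rfl | rfl) <;> assumption)
  by_cases hr2 : r = 2
  · -- a four group: each module needs two lines
    have h12 : e₁ * e₂ ≠ 1 := fun h => he.notMem (mem_zpowers_iff.mpr
      ⟨-1, by rw [zpow_neg_one, eq_inv_of_mul_eq_one_left h]⟩)
    have hlines : ∀ x ∈ closure ({e₁, e₂} : Set G), x ≠ 1 → x = e₁ ∨ x = e₂ ∨ x = e₁ * e₂ := by
      intro x hx
      have hsq : ∀ y : G, orderOf y = r → y * y = 1 := fun y hy => by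
        rw [← sq]
        have := pow_orderOf_eq_one y
        rwa [hy, hr2] at this
      have h21 : e₂ * e₁ = e₁ * e₂ := he.comm.symm.eq
      have h1 := hsq e₁ he.left
      have h2 := hsq e₂ he.right
      have hinv1 : e₁⁻¹ = e₁ := inv_eq_of_mul_eq_one_right h1
      have hinv2 : e₂⁻¹ = e₂ := inv_eq_of_mul_eq_one_right h2
      suffices x = 1 ∨ x = e₁ ∨ x = e₂ ∨ x = e₁ * e₂ from fun h => this.resolve_left h
      induction hx using closure_induction with
      | mem y hy => rcases hy with rfl | rfl <;> simp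
      | one => simp
      | mul y z _ _ hy hz =>
        have h1' : ∀ w, e₁ * (e₁ * w) = w := fun w => by rw [← mul_assoc, h1, one_mul]
        have h2' : ∀ w, e₂ * (e₂ * w) = w := fun w => by rw [← mul_assoc, h2, one_mul]
        have h21' : ∀ w, e₂ * (e₁ * w) = e₁ * (e₂ * w) := fun w => by
          rw [← mul_assoc, h21, mul_assoc]
        rcases hy with rfl | rfl | rfl | rfl <;> rcases hz with rfl | rfl | rfl | rfl <;>
          simp [h1, h2, h1', h2', h21, h21', mul_assoc]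
      | inv y _ hy =>
        rcases hy with rfl | rfl | rfl | rfl <;> simp [hinv1, hinv2, h21]
    have hmem : e₁ ∈ closure ({e₁, e₂} : Set G) ∧ e₂ ∈ closure ({e₁, e₂} : Set G) :=
      ⟨subset_closure (by simp), subset_closure (by simp)⟩
    have hne : e₁ ≠ 1 ∧ e₂ ≠ 1 :=
      ⟨fun h => hrp.ne_one (by rw [← he.left, h, orderOf_one]),
        fun h => hrp.ne_one (by rw [← he.right, h, orderOf_one])⟩
    have hord : ∀ x ∈ closure ({e₁, e₂} : Set G), x ≠ 1 → orderOf x = r := fun x hx hx1 =>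
      he.orderOf_eq hrp hx hx1
    -- two of the three involutions fix points of a given module
    have htwo : ∀ {u : ℕ} [Fact u.Prime], u ≠ r → ∀ {Q : Subgroup G}, IsPGroup u Q → Q ≠ ⊥ →
        ⊤ ≤ normalizer (Q : Set G) → H ⊓ centralizer (Q : Set G) = ⊥ →
        ∀ x ∈ closure ({e₁, e₂} : Set G), x ≠ 1 →
          ∃ y ∈ closure ({e₁, e₂} : Set G), y ≠ 1 ∧ y ≠ x ∧ Q ⊓ centralizer {y} ≠ ⊥ := by
      intro u _ hu Q hQ hQ1 hQn hHQ x hx hx1
      by_contra hc
      push Not at hc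
      have hle : Q ≤ centralizer {x} := by
        refine Coprime.le_of_pair hrp (coprime_card_of_isPGroup hQ hrp hu.symm)
          ((closure_le _).mpr fun y _ => hQn (mem_top y)) he.comm (he.left ▸ pow_orderOf_eq_one e₁)
          (he.right ▸ pow_orderOf_eq_one e₂) hne.2 he.notMem fun y hy hy1 => ?_
        by_cases hyx : y = x
        · exact hyx ▸ inf_le_right
        · rw [hc y hy hy1 hyx]; exact bot_le
      have : x ∈ H ⊓ centralizer (Q : Set G) := ⟨hEH hx, mem_centralizer_iff.mpr fun y hy =>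
        (commute_iff_mem.mpr (hle hy)).symm.eq⟩
      rw [hHQ, mem_bot] at this
      exact hx1 this
    obtain ⟨x, hx, hx1, -, hxP⟩ := htwo hpr hP hP1 hPn hHP e₁ hmem.1 hne.1
    obtain ⟨x', hx', hx'1, hx'x, hx'P⟩ := htwo hpr hP hP1 hPn hHP x hx hx1
    obtain ⟨y, hy, hy1, -, hyN⟩ := htwo hqr hN hN1 hNn hHN e₁ hmem.1 hne.1
    obtain ⟨y', hy', hy'1, hy'y, hy'N⟩ := htwo hqr hN hN1 hNn hHN y hy hy1
    have key : ∀ a b : G, (a = e₁ ∨ a = e₂ ∨ a = e₁ * e₂) → P ⊓ centralizer {a} ≠ ⊥ →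
        N ⊓ centralizer {b} ≠ ⊥ → a ≠ b := by
      rintro a b ha hPa hNb rfl
      have ha' : a ∈ closure ({e₁, e₂} : Set G) ∧ a ≠ 1 := by
        rcases ha with rfl | rfl | rfl
        exacts [⟨hmem.1, hne.1⟩, ⟨hmem.2, hne.2⟩, ⟨mul_mem hmem.1 hmem.2, h12⟩]
      rcases hboth hr hpr hqr a (hord a ha'.1 ha'.2) with h | h
      exacts [hPa h, hNb h]
    have a1 := hlines x hx hx1
    have a2 := hlines x' hx' hx'1
    have k1 := key x y a1 hxP hyN
    have k2 := key x y' a1 hxP hy'N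
    have k3 := key x' y a2 hx'P hyN
    have k4 := key x' y' a2 hx'P hy'N
    rcases a1 with rfl | rfl | rfl <;> rcases a2 with rfl | rfl | rfl <;>
      rcases hlines y hy hy1 with rfl | rfl | rfl <;>
      rcases hlines y' hy' hy'1 with rfl | rfl | rfl <;> simp_all
  -- both odd
  have hpi : ∀ u : ℕ, u.Prime → u ∣ Nat.card H → u = r ∨ u = s := fun u hu hd => hH.1 u hu hd
  have hcent : ∀ {t v : ℕ} [Fact t.Prime] [Fact v.Prime], t ∈ σ → v ≠ 2 → v ≠ t → v ≠ p → v ≠ q →
      p ≠ t → q ≠ t → ∀ x ∈ H, orderOf x = t → ∀ y ∈ coreIn v H, Commute x y := by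
    intro t v _ _ ht hv2 hvt hvp hvq hpt hqt x hx hxo y hy
    have hker : ∀ {Q : Subgroup G}, H ⊓ centralizer (Q : Set G) = ⊥ →
        ∀ z ∈ coreIn v H, z ∈ centralizer (Q : Set G) → z = 1 := fun hQ z hz hzc => by
      have : z ∈ H ⊓ centralizer _ := ⟨coreIn_le hz, hzc⟩
      rw [hQ] at this
      exact mem_bot.mp this
    rcases hboth ht hpt hqt x hxo with h | h
    · exact commute_of_fpf hv2 (Fact.out : t.Prime) hvt coreIn_isPGroup hxo
        (le_normalizer_coreIn hx) (fun z _ => hPn (mem_top z)) (hPn (mem_top x))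
        (coprime_card_card coreIn_isPGroup hP hvp)
        (coprime_card_of_isPGroup hP Fact.out hpt.symm) h (hker hHP) hy
    · exact commute_of_fpf hv2 (Fact.out : t.Prime) hvt coreIn_isPGroup hxo
        (le_normalizer_coreIn hx) (fun z _ => hNn (mem_top z)) (hNn (mem_top x))
        (coprime_card_card coreIn_isPGroup hN hvq)
        (coprime_card_of_isPGroup hN Fact.out hqt.symm) h (hker hHN) hy
  obtain ⟨f₁, hf₁, f₂, hf₂, hf⟩ := hS.exists_pair hs hp hq hr hps.symm hqs.symm hrs.symm hpq hpr hqr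
    (by simp : s ∈ ({r, s} : Set ℕ)) hH
  have hFH : closure ({f₁, f₂} : Set G) ≤ H :=
    (closure_le H).mpr (by rintro y (rfl | rfl) <;> assumption)
  obtain ⟨e, hem, he1, hfix⟩ := he.exists_fix hrp (coprime_card_of_isPGroup hP hrp hpr.symm)
    (hPn (mem_top _)) (hPn (mem_top _)) hP1
  have heo := he.orderOf_eq hrp hem he1
  have hcommF : ∀ f ∈ closure ({f₁, f₂} : Set G), f ≠ 1 → Commute e f := fun f hf' hf1 =>
    commute_of_cross hrs hpi (hEH hem) (hFH hf') heo (hf.orderOf_eq hsp hf' hf1)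
      (fun z hz => hcent hr hs2 hrs.symm hps.symm hqs.symm hpr hqr e (hEH hem) heo z hz)
      (fun z hz => hcent hs hr2 hrs hpr.symm hqr.symm hps hqs f (hFH hf')
        (hf.orderOf_eq hsp hf' hf1) z hz)
  have hnorm : ∀ f ∈ closure ({f₁, f₂} : Set G),
      f ∈ normalizer ((P ⊓ centralizer {e} : Subgroup G) : Set G) := by
    intro f hf'
    have hef : Commute e f := by
      by_cases h : f = 1
      · subst h; exact Commute.one_right e
      · exact hcommF f hf' h
    refine Coprime.le_normalizer_of_conj_mem (A := zpowers f) ?_ (mem_zpowers f)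
    intro g hg y hy
    obtain ⟨k, rfl⟩ := mem_zpowers_iff.mp hg
    refine ⟨(mem_normalizer_iff.mp (hPn (mem_top _)) y).mp hy.1, commute_iff_mem.mp ?_⟩
    have hk : Commute e (f ^ k) := hef.zpow_right k
    exact (hk.mul_right (commute_iff_mem.mpr hy.2)).mul_right hk.inv_right
  obtain ⟨f, hfm, hf1, hfix2⟩ := hf.exists_fix hsp
    (coprime_card_of_isPGroup (hP.to_le inf_le_left) hsp hps.symm) (hnorm f₁ (subset_closure (by simp)))
    (hnorm f₂ (subset_closure (by simp))) hfix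
  obtain ⟨v, ⟨hv, hve⟩, hvo, hfv⟩ := exists_orderOf_fix (hP.to_le inf_le_left) hfix2
  exact hS.three hp hr hs hpr hrs hps hvo heo (hf.orderOf_eq hsp hfm hf1)
    (commute_iff_mem.mpr hve).symm (hcommF f hfm hf1) hfv.symm

end Cfsg.Agent.Lib.PairSpectrum
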